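import Groth.Agent.SiteBase.DescentSS.Engine
import Groth.Agent.SiteBase.CompareSit.CycleSeq
import Groth.Agent.SiteBase.DerivedPrecompAcyclic

/-!
# The spectral sequence of a resolution
-/

set_option autoImplicit false
set_option linter.unusedSectionVars false
set_option backward.isDefEq.respectTransparency false

universe u w v

open CategoryTheory CategoryTheory.Limits

noncomputable section

namespace Groth.Agent.DescentSS

/-- Turning a second page into a first page, from the rows. -/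
theorem exists_pageOne_of_pageTwo (M : ℕ → CochainComplex AddCommGrpCat.{u} ℕ)
    (E₂ : E₂CohomologicalSpectralSequence AddCommGrpCat.{u}) (H : ℕ → AddCommGrpCat.{u})
    (α : SpSeq.Abutment E₂ (fun n : ℤ => if 0 ≤ n then H n.toNat else AddCommGrpCat.of PUnit.{u + 1}))
    (hfin : ∀ n, α.IsFinite n)
    (hE : ∀ p q : ℤ, Nonempty ((E₂.page 2 le_rfl).X (p, q) ≅
      (if 0 ≤ p ∧ 0 ≤ q then (M q.toNat).homology p.toNat else AddCommGrpCat.of PUnit.{u + 1})))
    (P : ℕ → ℕ → AddCommGrpCat.{u}) (eM : ∀ p q, Nonempty ((M q).X p ≅ P p q)) :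
    ∃ (E : CohomologicalSpectralSequence AddCommGrpCat.{u} 1)
      (a : SpSeq.Abutment E (fun n : ℤ => if 0 ≤ n then H n.toNat else AddCommGrpCat.of PUnit.{u + 1})),
      (∀ n, a.IsFinite n) ∧ SpSeq.IsBounded E ∧
      ∀ p q : ℤ, Nonempty ((E.page 1 le_rfl).X (p, q) ≅
        (if 0 ≤ p ∧ 0 ≤ q then P p.toNat q.toNat else AddCommGrpCat.of PUnit.{u + 1})) := by
  have hO : IsZero (AddCommGrpCat.of PUnit.{u + 1}) := AddCommGrpCat.isZero_of_subsingleton _
  let R := rows M
  have hneg : ∀ p q : ℤ, ¬ (0 ≤ p ∧ 0 ≤ q) → IsZero ((R q).X p) := fun p q h => by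
    rcases q with q | q
    · exact (M q).isZero_extend_X ComplexShape.embeddingUpNat p fun i hi => h
        ⟨by simp [ComplexShape.embeddingUpNat] at hi; lia, Int.natCast_nonneg q⟩
    · exact isZero_zero _
  have e : ∀ pq : ℤ × ℤ, Nonempty ((pageOne R).homology pq ≅ (E₂.page 2 le_rfl).X pq) := by
    rintro ⟨p, q⟩
    by_cases h : 0 ≤ p ∧ 0 ≤ q
    · obtain ⟨p, rfl⟩ := Int.eq_ofNat_of_zero_le h.1
      obtain ⟨q, rfl⟩ := Int.eq_ofNat_of_zero_le h.2
      obtain ⟨e₂⟩ := hE p q
      exact ⟨pageOneHomologyIso R _ _ ≪≫ (M q).extendHomologyIso ComplexShape.embeddingUpNat rfl ≪≫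
        eqToIso (by rw [if_pos ⟨Int.natCast_nonneg p, Int.natCast_nonneg q⟩]; rfl) ≪≫ e₂.symm⟩
    · obtain ⟨e₂⟩ := hE p q
      refine ⟨IsZero.iso (IsZero.of_iso ?_ (pageOneHomologyIso R p q)) (IsZero.of_iso ?_ e₂)⟩
      · exact (HomologicalComplex.exactAt_iff_isZero_homology _ _).1
          (ShortComplex.exact_of_isZero_X₂ _ (hneg p q h))
      · rw [if_neg h]; exact hO
  refine ⟨prepend R E₂ fun pq => (e pq).some, prependAbutment R E₂ _ α, hfin, fun n => ?_, fun p q => ?_⟩
  · refine (Set.finite_Icc (0 : ℤ) n).subset fun p hp => ?_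
    simp only [Set.mem_Icc]
    by_contra hc
    exact hp (by rw [prepend_page_one_X]; exact hneg p (n - p) (fun h => hc ⟨h.1, by lia⟩))
  · rw [prepend_page_one_X]
    by_cases h : 0 ≤ p ∧ 0 ≤ q
    · rw [if_pos h]
      obtain ⟨p, rfl⟩ := Int.eq_ofNat_of_zero_le h.1
      obtain ⟨q, rfl⟩ := Int.eq_ofNat_of_zero_le h.2
      exact ⟨(M q).extendXIso ComplexShape.embeddingUpNat rfl ≪≫ (eM p q).some⟩
    · rw [if_neg h]
      exact ⟨IsZero.iso (hneg p q h) hO⟩

variable {A : Type w} [Category.{v} A] [Abelian A]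

/-- The degreewise injective cone receiving a complex. -/
def injCone [EnoughInjectives A] (Q : CochainComplex A ℕ) : CochainComplex A ℕ :=
  CochainComplex.of (fun n => Injective.under (Q.X n) ⊞ Injective.under (Q.X (n + 1)))
    (fun _ => biprod.snd ≫ biprod.inl) (fun n => by simp)

/-- The embedding into the injective cone. -/
def toInjCone [EnoughInjectives A] (Q : CochainComplex A ℕ) : Q ⟶ injCone Q where
  f n := biprod.lift (Injective.ι _) (Q.d n (n + 1) ≫ Injective.ι _)
  comm' i j h := by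
    obtain rfl : i + 1 = j := h
    dsimp [injCone]
    rw [CochainComplex.of_d]
    apply biprod.hom_ext <;> simp

/-- The terms of an injective complex are injective. -/
theorem injective_X_of_injective [EnoughInjectives A] (Q : CochainComplex A ℕ) [Injective Q] (n : ℕ) :
    Injective (Q.X n) := by
  have hm : ∀ k, Mono ((toInjCone Q).f k) := fun k =>
    mono_of_mono_fac (h := Injective.ι (Q.X k))
      (show (toInjCone Q).f k ≫ biprod.fst = Injective.ι (Q.X k) from biprod.lift_fst _ _)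
  have : Mono (toInjCone Q) := HomologicalComplex.mono_of_mono_f _ hm
  obtain ⟨r, hr⟩ : ∃ r : injCone Q ⟶ Q, toInjCone Q ≫ r = 𝟙 Q :=
    ⟨_, Injective.comp_factorThru (𝟙 Q) (toInjCone Q)⟩
  have hr' : (toInjCone Q).f n ≫ r.f n = 𝟙 _ := congrArg (fun t => HomologicalComplex.Hom.f t n) hr
  have : Injective ((injCone Q).X n) :=
    inferInstanceAs (Injective (Injective.under (Q.X n) ⊞ Injective.under (Q.X (n + 1))))
  exact ⟨fun g f _ => ⟨Injective.factorThru (g ≫ (toInjCone Q).f n) f ≫ r.f n, by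
    rw [← Category.assoc, Injective.comp_factorThru, Category.assoc, hr', Category.comp_id]⟩⟩

/-- Injective complexes stay exact in positive degrees under additive functors. -/
theorem exactAt_map_of_injective {B : Type*} [Category B] [Abelian B] (G : A ⥤ B) [G.Additive]
    (Q : CochainComplex A ℕ) [Injective Q] (p : ℕ) :
    ((G.mapHomologicalComplex (ComplexShape.up ℕ)).obj Q).ExactAt (p + 1) := by
  have hm : ∀ k, Mono ((HyperLib.toCone Q).f k) := fun k =>
    (SplitMono.mk (f := biprod.lift (𝟙 _) (Q.d k (k + 1))) biprod.fst (by simp)).mono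
  have : Mono (HyperLib.toCone Q) := HomologicalComplex.mono_of_mono_f _ hm
  obtain ⟨r, hr⟩ : ∃ r : HyperLib.coneObj Q ⟶ Q, HyperLib.toCone Q ≫ r = 𝟙 Q :=
    ⟨_, Injective.comp_factorThru (𝟙 Q) (HyperLib.toCone Q)⟩
  let a : Q.X p ⊞ Q.X (p + 1) ⟶ Q.X p := r.f p
  let b : Q.X (p + 1) ⊞ Q.X (p + 1 + 1) ⟶ Q.X (p + 1) := r.f (p + 1)
  have hr' : biprod.lift (𝟙 _) (Q.d (p + 1) (p + 1 + 1)) ≫ b = 𝟙 _ :=
    congrArg (fun t => HomologicalComplex.Hom.f t (p + 1)) hr
  have hc : (biprod.snd ≫ biprod.inl : Q.X p ⊞ Q.X (p + 1) ⟶ Q.X (p + 1) ⊞ Q.X (p + 1 + 1)) ≫ b =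
      a ≫ Q.d p (p + 1) := by
    refine Eq.trans ?_ (r.comm p (p + 1)).symm
    congr 1
    exact (CochainComplex.of_d (fun n => Q.X n ⊞ Q.X (n + 1)) (fun _ => biprod.snd ≫ biprod.inl) p).symm
  have key : 𝟙 (Q.X (p + 1)) = (biprod.inr ≫ a) ≫ Q.d p (p + 1) +
      Q.d (p + 1) (p + 1 + 1) ≫ biprod.inr ≫ b := by
    have h1 : (biprod.inl : Q.X (p + 1) ⟶ _) ≫ b = (biprod.inr ≫ a) ≫ Q.d p (p + 1) := by
      rw [Category.assoc, ← hc, Category.assoc, biprod.inr_snd_assoc]
    rw [← hr', biprod.lift_eq, Preadditive.add_comp, Category.id_comp, Category.assoc, h1]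
  rw [HomologicalComplex.exactAt_iff' _ p (p + 1) (p + 1 + 1) (by simp) (by simp),
    ShortComplex.exact_iff_exact_up_to_refinements]
  intro W x hx
  refine ⟨W, 𝟙 W, inferInstance, x ≫ G.map (biprod.inr ≫ a), ?_⟩
  have hx' : x ≫ G.map (Q.d (p + 1) (p + 1 + 1)) = 0 := hx
  show 𝟙 W ≫ x = (x ≫ G.map (biprod.inr ≫ a)) ≫ G.map (Q.d p (p + 1))
  have h2 := congrArg (fun t => x ≫ G.map t) key
  simp only [G.map_id, G.map_add, G.map_comp, Preadditive.comp_add] at h2
  rw [reassoc_of% hx', zero_comp, add_zero] at h2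
  rw [Category.id_comp, G.map_comp]
  exact (Category.comp_id x).symm.trans (h2.trans (by simp only [Category.assoc]))

/-- `H⁰` of an injective complex is injective. -/
theorem injective_homology_zero (Q : CochainComplex A ℕ) [Injective Q] : Injective (Q.homology 0) := by
  have : Injective (Q.cycles 0) := ⟨fun {X Y} g f _ => by
    let φ : (CochainComplex.single₀ A).obj X ⟶ Q :=
      (Q.fromSingle₀Equiv X).symm ⟨g ≫ Q.iCycles 0, by rw [Category.assoc, Q.iCycles_d, comp_zero]⟩
    have hf : Mono ((CochainComplex.single₀ A).map f) := inferInstance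
    let ψ := Injective.factorThru φ ((CochainComplex.single₀ A).map f)
    have hψ : (CochainComplex.single₀ A).map f ≫ ψ = φ := Injective.comp_factorThru _ _
    let t := (Q.fromSingle₀Equiv Y) ψ
    refine ⟨Q.liftCycles t.1 1 (by simp) t.2, ?_⟩
    rw [← cancel_mono (Q.iCycles 0), Category.assoc, HomologicalComplex.liftCycles_i]
    have h0 := congrArg (fun s => HomologicalComplex.Hom.f s 0) hψ
    simpa [φ, t, CochainComplex.fromSingle₀Equiv] using h0⟩
  exact Injective.of_iso (asIso (Q.homologyπ 0)) this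

variable {B : Type*} [Category B] [Abelian B] (G : A ⥤ B) [G.Additive] [PreservesFiniteLimits G]

/-- `H⁰ ∘ G = G ∘ H⁰`. -/
def homologyZeroNatIso :
    G.mapHomologicalComplex (ComplexShape.up ℕ) ⋙
        HomologicalComplex.homologyFunctor B (ComplexShape.up ℕ) 0 ≅
      HomologicalComplex.homologyFunctor A (ComplexShape.up ℕ) 0 ⋙ G :=
  NatIso.ofComponents
    (fun K => (asIso ((CompareSit.mapC G K).homologyπ 0)).symm ≪≫ asIso (CompareSit.cyc G K 0) ≪≫
      G.mapIso (asIso (K.homologyπ 0)))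
    (fun {K L} f => by
      have : G.PreservesMonomorphisms := inferInstance
      let f' : CompareSit.mapC G K ⟶ CompareSit.mapC G L := (G.mapHomologicalComplex _).map f
      have h : HomologicalComplex.cyclesMap f' 0 ≫ CompareSit.cyc G L 0 =
          CompareSit.cyc G K 0 ≫ G.map (HomologicalComplex.cyclesMap f 0) := by
        rw [← cancel_mono (G.map (L.iCycles 0)), Category.assoc, CompareSit.cyc_i,
          HomologicalComplex.cyclesMap_i, Category.assoc, ← G.map_comp, HomologicalComplex.cyclesMap_i,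
          G.map_comp, ← Category.assoc, CompareSit.cyc_i]
        rfl
      show HomologicalComplex.homologyMap f' 0 ≫
          inv ((CompareSit.mapC G L).homologyπ 0) ≫ CompareSit.cyc G L 0 ≫ G.map (L.homologyπ 0) =
        (inv ((CompareSit.mapC G K).homologyπ 0) ≫ CompareSit.cyc G K 0 ≫ G.map (K.homologyπ 0)) ≫
          G.map (HomologicalComplex.homologyMap f 0)
      rw [← cancel_epi ((CompareSit.mapC G K).homologyπ 0), HomologicalComplex.homologyπ_naturality_assoc,
        IsIso.hom_inv_id_assoc, reassoc_of% h, Category.assoc, IsIso.hom_inv_id_assoc, Category.assoc,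
        ← G.map_comp, ← G.map_comp, HomologicalComplex.homologyπ_naturality])

section

variable {A : Type (u + 1)} [Category.{u} A] [Abelian A] [EnoughInjectives A]
  [EnoughInjectives (CochainComplex A ℕ)] (G : A ⥤ AddCommGrpCat.{u}) [G.Additive] [PreservesFiniteLimits G]

/-- The spectral sequence of a resolution. -/
theorem exists_ss_of_resolution (K : CochainComplex A ℕ) (hK : ∀ q, K.ExactAt (q + 1))
    (F : A) (eF : Nonempty (K.homology 0 ≅ F))
    (H : ℕ → AddCommGrpCat.{u}) (eH : ∀ n, Nonempty ((G.rightDerived n).obj F ≅ H n))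
    (P : ℕ → ℕ → AddCommGrpCat.{u}) (eP : ∀ p q, Nonempty ((G.rightDerived q).obj (K.X p) ≅ P p q)) :
    ∃ (E : CohomologicalSpectralSequence AddCommGrpCat.{u} 1)
      (a : SpSeq.Abutment E (fun n : ℤ => if 0 ≤ n then H n.toNat else AddCommGrpCat.of PUnit.{u + 1})),
      (∀ n, a.IsFinite n) ∧ SpSeq.IsBounded E ∧
      ∀ p q : ℤ, Nonempty ((E.page 1 le_rfl).X (p, q) ≅
        (if 0 ≤ p ∧ 0 ≤ q then P p.toNat q.toNat else AddCommGrpCat.of PUnit.{u + 1})) := by
  let ChA := CochainComplex A ℕ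
  let ChB := CochainComplex AddCommGrpCat.{u} ℕ
  let T : ChA ⥤ ChB := G.mapHomologicalComplex (ComplexShape.up ℕ)
  let h₀ : ChA ⥤ A := SpObjSS.hZero (𝟭 ChA)
  let S : ChB ⥤ AddCommGrpCat.{u} := SpObjSS.hZero (𝟭 ChB)
  have hidA : ∀ S : ShortComplex ChA, S.ShortExact → (S.map (𝟭 ChA)).ShortExact := fun S hS => hS
  have hidB : ∀ S : ShortComplex ChB, S.ShortExact → (S.map (𝟭 ChB)).ShortExact := fun S hS => hS
  have hIA : ∀ I : ChA, Injective I → ∀ p : ℕ, ((𝟭 ChA).obj I).ExactAt (p + 1) := fun I hI p =>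
    HyperLib.exactAt_of_injective I p
  have hIB : ∀ I : ChB, Injective I → ∀ p : ℕ, ((𝟭 ChB).obj I).ExactAt (p + 1) := fun I hI p =>
    HyperLib.exactAt_of_injective I p
  have := SpObjSS.preservesFiniteLimits_hZero (𝟭 ChA) hidA
  have := SpObjSS.preservesFiniteLimits_hZero (𝟭 ChB) hidB
  have eT : ∀ n, Nonempty (((T ⋙ S).rightDerived n).obj K ≅ (G.rightDerived n).obj F) := fun n => by
    let R := injectiveResolution K
    let L : CochainComplex A ℕ := CompareSit.mapC h₀ R.cocomplex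
    have hL : ∀ q, IsZero (L.homology (q + 1)) := fun q =>
      ((HomologicalComplex.exactAt_iff_isZero_homology _ _).1 (hK q)).of_iso
        ((R.isoRightDerivedObj h₀ (q + 1)).symm ≪≫
          (SpObjSS.nonempty_rightDerived_hZero_iso (𝟭 ChA) hidA hIA (q + 1) K).some)
    have hX : CompareSit.Acyclic G L :=
      CompareSit.acyclic_of_injective G L fun i =>
        haveI := R.injective i
        injective_homology_zero (R.cocomplex.X i)
    obtain ⟨e⟩ := CompareSit.nonempty_homology_iso hX (n := n) (fun q _ => hL q) n le_rfl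
    let e0 : L.homology 0 ≅ F := (R.isoRightDerivedObj h₀ 0).symm ≪≫
      h₀.rightDerivedZeroIsoSelf.app K ≪≫ eF.some
    let α : T ⋙ S ≅ h₀ ⋙ G := homologyZeroNatIso G
    exact ⟨R.isoRightDerivedObj (T ⋙ S) n ≪≫
      (HomologicalComplex.homologyFunctor _ _ n).mapIso
        ((NatIso.mapHomologicalComplex α (ComplexShape.up ℕ)).app R.cocomplex) ≪≫ e ≪≫
      (G.rightDerived n).mapIso e0⟩
  obtain ⟨E₂, α, hfin, -, hE⟩ := SpObjSS.exists_grothendieck_spectralSequence' T S (fun Q hQ i hi => by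
      obtain ⟨j, rfl⟩ := Nat.exists_eq_succ_of_ne_zero (Nat.pos_iff_ne_zero.1 hi)
      refine IsZero.of_iso ?_ (SpObjSS.nonempty_rightDerived_hZero_iso (𝟭 ChB) hidB hIB (j + 1) _).some
      exact (HomologicalComplex.exactAt_iff_isZero_homology _ _).1
        (haveI := hQ; exactAt_map_of_injective G Q j))
    K H (fun n => ⟨(eT n).some ≪≫ (eH n).some⟩)
    (fun p q => ((T.rightDerived q).obj K).homology p)
    (fun p q => SpObjSS.nonempty_rightDerived_hZero_iso (𝟭 ChB) hidB hIB p _)
    _ (AddCommGrpCat.isZero_of_subsingleton (AddCommGrpCat.of PUnit.{u + 1}))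
  refine exists_pageOne_of_pageTwo (fun q => (T.rightDerived q).obj K) E₂ H α hfin hE P fun p q => ?_
  let ev := HomologicalComplex.eval A (ComplexShape.up ℕ) p
  let ev' := HomologicalComplex.eval AddCommGrpCat.{u} (ComplexShape.up ℕ) p
  have hev : ∀ Q : ChA, Injective Q → ∀ i : ℕ, IsZero ((G.rightDerived (i + 1)).obj (ev.obj Q)) :=
    fun Q hQ i =>
      haveI : Injective (Q.X p) := injective_X_of_injective Q p
      G.isZero_rightDerived_obj_injective_succ i (Q.X p)
  obtain ⟨e1⟩ := SiteBase.nonempty_rightDerived_precomp_of_acyclic ev G hev q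
  exact ⟨((SiteBase.rightDerivedCompIso T ev' q).app K).symm ≪≫
    (show ((T ⋙ ev').rightDerived q).obj K ≅ ((ev ⋙ G).rightDerived q).obj K from Iso.refl _) ≪≫
    e1.app K ≪≫ (eP p q).some⟩

end

end Groth.Agent.DescentSS
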