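import Groth.Agent.SiteBase.DescentSS.PageOne
import Groth.Agent.SpObjSS.Grothendieck
import Groth.Agent.SpObjSS.ExactCx
import Groth.Agent.HyperLib.HyperSS
import Groth.Agent.SiteBase.Derived
import Groth.Agent.SiteBase.Rpush
import Groth.Prelude.Def_CohSite
import Mathlib.AlgebraicTopology.AlternatingFaceMapComplex

/-!
# The spectral sequence of an augmented simplicial object whose rows are exact on injective sheaves
-/

set_option autoImplicit false
set_option linter.unusedSectionVars false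
set_option backward.isDefEq.respectTransparency false

universe u

open CategoryTheory CategoryTheory.Limits Opposite Simplicial AlgebraicTopology

noncomputable section

namespace Groth.Agent.DescentSS

variable {C : Type u} [SmallCategory C] (K : SimplicialObject C)

/-- The cochain complex of a presheaf on a simplicial object. -/
def cx : (Cᵒᵖ ⥤ AddCommGrpCat.{u}) ⥤ CochainComplex AddCommGrpCat.{u} ℕ :=
  (Functor.whiskeringLeft SimplexCategory Cᵒᵖ AddCommGrpCat.{u}).obj K.rightOp ⋙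
    alternatingCofaceMapComplex AddCommGrpCat.{u}

lemma cx_X (P : Cᵒᵖ ⥤ AddCommGrpCat.{u}) (n : ℕ) : ((cx K).obj P).X n = P.obj (op (K _⦋n⦌)) := rfl

lemma cx_d (P : Cᵒᵖ ⥤ AddCommGrpCat.{u}) (n : ℕ) :
    ((cx K).obj P).d n (n + 1) = ∑ i : Fin (n + 2), (-1 : ℤ) ^ (i : ℕ) • P.map (K.δ i).op := by
  show (AlternatingCofaceMapComplex.obj (K.rightOp ⋙ P)).d n (n + 1) = _
  exact (CochainComplex.of_d (fun n : ℕ => P.obj (op (K _⦋n⦌)))
    (fun n => ∑ i : Fin (n + 2), (-1 : ℤ) ^ (i : ℕ) • P.map (K.δ i).op) n)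

lemma hom_sum_apply {ι : Type*} {A B : AddCommGrpCat.{u}} (s : Finset ι) (f : ι → (A ⟶ B)) (x : A) :
    (∑ i ∈ s, f i).hom x = ∑ i ∈ s, (f i).hom x := by
  classical
  induction s using Finset.induction with
  | empty => simp
  | insert b s hb ih => rw [Finset.sum_insert hb, Finset.sum_insert hb, ← ih]; rfl

lemma cx_d_apply (P : Cᵒᵖ ⥤ AddCommGrpCat.{u}) (n : ℕ) (x : P.obj (op (K _⦋n⦌))) :
    (((cx K).obj P).d n (n + 1)).hom x = ∑ i : Fin (n + 2), (-1 : ℤ) ^ (i : ℕ) • (P.map (K.δ i).op).hom x := by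
  refine (congrArg (fun t => t.hom x) (cx_d K P n)).trans ((hom_sum_apply _ _ x).trans ?_)
  exact Finset.sum_congr rfl fun i _ => rfl

instance cx_additive : (cx K).Additive where
  map_add {P Q f g} := by
    ext n x
    rfl

lemma cx_shortExact (S : ShortComplex (Cᵒᵖ ⥤ AddCommGrpCat.{u})) (hS : S.ShortExact) :
    (S.map (cx K)).ShortExact :=
  HomologicalComplex.shortExact_of_degreewise_shortExact _ fun n =>
    hS.map_of_exact ((evaluation Cᵒᵖ AddCommGrpCat.{u}).obj (op (K _⦋n⦌)))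

instance cx_preservesFiniteLimits : PreservesFiniteLimits (cx K) := by
  have t := (Functor.exact_tfae (cx K)).out 0 3
  exact ((t.1 fun S hS => cx_shortExact K S hS)).1

instance cx_preservesFiniteColimits : PreservesFiniteColimits (cx K) := by
  have t := (Functor.exact_tfae (cx K)).out 0 3
  exact ((t.1 fun S hS => cx_shortExact K S hS)).2

variable {U : C} (a : K _⦋0⦌ ⟶ U) (ha : K.δ (0 : Fin 2) ≫ a = K.δ (1 : Fin 2) ≫ a)

include ha in
lemma aug_d (P : Cᵒᵖ ⥤ AddCommGrpCat.{u}) : P.map a.op ≫ ((cx K).obj P).d 0 1 = 0 := by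
  rw [cx_d, Fin.sum_univ_two]
  simp only [Fin.val_zero, pow_zero, one_smul, Fin.val_one, pow_one, neg_smul, Preadditive.comp_add,
    Preadditive.comp_neg]
  rw [← P.map_comp, ← P.map_comp, ← op_comp, ← op_comp, ha, add_neg_cancel]

/-- Sections over the base as degree zero cohomology. -/
def augH0 : (evaluation Cᵒᵖ AddCommGrpCat.{u}).obj (op U) ⟶
    cx K ⋙ HomologicalComplex.homologyFunctor AddCommGrpCat.{u} (ComplexShape.up ℕ) 0 where
  app P := ((cx K).obj P).liftCycles (P.map a.op) 1 (by simp) (aug_d K a ha P) ≫ ((cx K).obj P).homologyπ 0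
  naturality P Q φ := by
    show φ.app (op U) ≫ ((cx K).obj Q).liftCycles (Q.map a.op) 1 (by simp) (aug_d K a ha Q) ≫
        ((cx K).obj Q).homologyπ 0 =
      (((cx K).obj P).liftCycles (P.map a.op) 1 (by simp) (aug_d K a ha P) ≫ ((cx K).obj P).homologyπ 0) ≫
        HomologicalComplex.homologyMap ((cx K).map φ) 0
    rw [Category.assoc, HomologicalComplex.homologyπ_naturality, HomologicalComplex.liftCycles_comp_cyclesMap_assoc,
      HomologicalComplex.comp_liftCycles_assoc]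
    congr 1
    rw [← cancel_mono (((cx K).obj Q).iCycles 0), HomologicalComplex.liftCycles_i,
      HomologicalComplex.liftCycles_i]
    exact (φ.naturality a.op).symm

/-- The augmented row of a presheaf is exact. -/
structure RowExact (P : Cᵒᵖ ⥤ AddCommGrpCat.{u}) : Prop where
  exact_succ : ∀ p : ℕ, ((cx K).obj P).ExactAt (p + 1)
  injective : Function.Injective (P.map a.op).hom
  surjective : ∀ x : P.obj (op (K _⦋0⦌)), (P.map (K.δ (0 : Fin 2)).op).hom x = (P.map (K.δ (1 : Fin 2)).op).hom x →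
    ∃ y, (P.map a.op).hom y = x

lemma RowExact.isIso_augH0 {P : Cᵒᵖ ⥤ AddCommGrpCat.{u}} (h : RowExact K a P) : IsIso ((augH0 K a ha).app P) := by
  let Z := (cx K).obj P
  have hπ : IsIso (Z.homologyπ 0) := inferInstance
  have : IsIso (Z.liftCycles (P.map a.op) 1 (by simp) (aug_d K a ha P)) := by
    rw [ConcreteCategory.isIso_iff_bijective]
    have hi : Function.Injective (Z.iCycles 0).hom := (AddCommGrpCat.mono_iff_injective _).1 inferInstance
    have hl : ∀ y, (Z.iCycles 0).hom ((Z.liftCycles (P.map a.op) 1 (by simp) (aug_d K a ha P)).hom y) =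
        (P.map a.op).hom y :=
      fun y => ConcreteCategory.congr_hom (Z.liftCycles_i (P.map a.op) 1 (by simp) (aug_d K a ha P)) y
    constructor
    · intro y y' hy
      exact h.injective ((hl y).symm.trans ((congrArg (Z.iCycles 0).hom hy).trans (hl y')))
    · intro z
      have hz := ConcreteCategory.congr_hom (Z.iCycles_d 0 1) z
      change (Z.d 0 1).hom ((Z.iCycles 0).hom z) = 0 at hz
      rw [cx_d_apply, Fin.sum_univ_two] at hz
      simp only [Fin.val_zero, pow_zero, one_smul, Fin.val_one, pow_one, neg_smul] at hz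
      obtain ⟨y, hy⟩ := h.surjective ((Z.iCycles 0).hom z) (eq_of_sub_eq_zero ((sub_eq_add_neg _ _).trans hz))
      exact ⟨y, hi ((hl y).trans hy)⟩
  exact inferInstanceAs (IsIso (Z.liftCycles (P.map a.op) 1 (by simp) (aug_d K a ha P) ≫ Z.homologyπ 0))

variable {J : GrothendieckTopology C} (hI : ∀ I : Sheaf J AddCommGrpCat.{u}, Injective I → RowExact K a I.obj)

/-- The rows, as a functor of sheaves. -/
abbrev rowFunctor : Sheaf J AddCommGrpCat.{u} ⥤ CochainComplex AddCommGrpCat.{u} ℕ :=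
  sheafToPresheaf J AddCommGrpCat.{u} ⋙ cx K

include ha hI in
lemma nonempty_rightDerived_comp_iso (F : Sheaf J AddCommGrpCat.{u}) (n : ℕ) :
    Nonempty (((rowFunctor K ⋙ SpObjSS.hZero (𝟭 (CochainComplex AddCommGrpCat.{u} ℕ))).rightDerived n).obj F ≅
      AddCommGrpCat.of (CohSite.HU F n U)) := by
  let G₁ := sheafToPresheaf J AddCommGrpCat.{u} ⋙ (evaluation Cᵒᵖ AddCommGrpCat.{u}).obj (op U)
  let G₂ : Sheaf J AddCommGrpCat.{u} ⥤ AddCommGrpCat.{u} :=
    rowFunctor K ⋙ SpObjSS.hZero (𝟭 (CochainComplex AddCommGrpCat.{u} ℕ))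
  have : G₁.Additive := inferInstance
  let t : G₁ ⟶ G₂ := Functor.whiskerLeft (sheafToPresheaf J AddCommGrpCat.{u}) (augH0 K a ha)
  let R := injectiveResolution F
  have : ∀ i, IsIso (t.app (R.cocomplex.X i)) := fun i =>
    (hI _ (R.injective i)).isIso_augH0 K a ha
  let e : (G₁.mapHomologicalComplex _).obj R.cocomplex ≅ (G₂.mapHomologicalComplex _).obj R.cocomplex :=
    HomologicalComplex.Hom.isoOfComponents (fun i => @asIso _ _ _ _ (t.app (R.cocomplex.X i)) (this i))
      (fun i j _ => (t.naturality (R.cocomplex.d i j)).symm)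
  exact ⟨R.isoRightDerivedObj G₂ n ≪≫ (HomologicalComplex.homologyFunctor _ _ n).mapIso e.symm ≪≫
    (R.isoRightDerivedObj G₁ n).symm ≪≫
    (SiteBase.rightDerivedCompIso (sheafToPresheaf J AddCommGrpCat.{u}) _ n).app F ≪≫
    ((evaluation Cᵒᵖ AddCommGrpCat.{u}).obj (op U)).mapIso ((SiteBase.rightDerivedIsoCohomology n).app F)⟩

include ha hI in
/-- The spectral sequence of the augmented simplicial object. -/
theorem exists_spectralSequence (F : Sheaf J AddCommGrpCat.{u})
    (H : ℕ → AddCommGrpCat.{u}) (eH : ∀ n, Nonempty (AddCommGrpCat.of (CohSite.HU F n U) ≅ H n))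
    (P : ℕ → ℕ → AddCommGrpCat.{u}) (eP : ∀ p q, Nonempty (AddCommGrpCat.of (CohSite.HU F q (K _⦋p⦌)) ≅ P p q)) :
    ∃ (E : CohomologicalSpectralSequence AddCommGrpCat.{u} 1)
      (α : SpSeq.Abutment E (fun n : ℤ => if 0 ≤ n then H n.toNat else AddCommGrpCat.of PUnit.{u + 1})),
      (∀ n, α.IsFinite n) ∧ SpSeq.IsBounded E ∧
      ∀ p q : ℤ, Nonempty ((E.page 1 le_rfl).X (p, q) ≅
        (if 0 ≤ p ∧ 0 ≤ q then P p.toNat q.toNat else AddCommGrpCat.of PUnit.{u + 1})) := by
  let Ch := CochainComplex AddCommGrpCat.{u} ℕ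
  have hid : ∀ S : ShortComplex Ch, S.ShortExact → (S.map (𝟭 Ch)).ShortExact := fun S hS => hS
  have hIc : ∀ I : Ch, Injective I → ∀ p : ℕ, ((𝟭 Ch).obj I).ExactAt (p + 1) := fun I hI p =>
    HyperLib.exactAt_of_injective I p
  have := SpObjSS.preservesFiniteLimits_hZero (𝟭 Ch) hid
  let M : ℕ → Ch := fun q => ((rowFunctor K (J := J)).rightDerived q).obj F
  have hO : IsZero (AddCommGrpCat.of PUnit.{u + 1}) := AddCommGrpCat.isZero_of_subsingleton _
  obtain ⟨E₂, α, hfin, -, hE⟩ := SpObjSS.exists_grothendieck_spectralSequence' (rowFunctor K (J := J))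
    (SpObjSS.hZero (𝟭 Ch)) (fun Q hQ i hi => by
      obtain ⟨j, rfl⟩ := Nat.exists_eq_succ_of_ne_zero (Nat.pos_iff_ne_zero.1 hi)
      refine IsZero.of_iso ?_ (SpObjSS.nonempty_rightDerived_hZero_iso (𝟭 Ch) hid hIc (j + 1) _).some
      exact (HomologicalComplex.exactAt_iff_isZero_homology _ _).1 ((hI Q hQ).exact_succ j))
    F H (fun n => ⟨(nonempty_rightDerived_comp_iso K a ha hI F n).some ≪≫ (eH n).some⟩)
    (fun p q => (M q).homology p)
    (fun p q => SpObjSS.nonempty_rightDerived_hZero_iso (𝟭 Ch) hid hIc p _)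
    _ hO
  have eM : ∀ p q, Nonempty ((M q).X p ≅ P p q) := fun p q =>
    ⟨(HomologicalComplex.eval _ _ p).mapIso
      ((SiteBase.rightDerivedCompIso (sheafToPresheaf J AddCommGrpCat.{u}) (cx K) q).app F ≪≫
        (cx K).mapIso ((SiteBase.rightDerivedIsoCohomology q).app F)) ≪≫ (eP p q).some⟩
  let R := rows M
  have hneg : ∀ p q : ℤ, ¬ (0 ≤ p ∧ 0 ≤ q) → IsZero ((R q).X p) := fun p q h => by
    rcases q with q | q
    · exact (M q).isZero_extend_X ComplexShape.embeddingUpNat p fun i hi => h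
        ⟨by simp [ComplexShape.embeddingUpNat] at hi; lia, Int.natCast_nonneg q⟩
    · exact isZero_zero _
  have e : ∀ pq : ℤ × ℤ, Nonempty ((pageOne R).homology pq ≅ (E₂.page 2 le_rfl).X pq) := by
    rintro ⟨p, q⟩
    by_cases h : 0 ≤ p ∧ 0 ≤ q
    · obtain ⟨p, rfl⟩ := Int.eq_ofNat_of_zero_le h.1
      obtain ⟨q, rfl⟩ := Int.eq_ofNat_of_zero_le h.2
      obtain ⟨e₂⟩ := hE p q
      exact ⟨pageOneHomologyIso R _ _ ≪≫ (M q).extendHomologyIso ComplexShape.embeddingUpNat rfl ≪≫
        eqToIso (by rw [if_pos ⟨Int.natCast_nonneg p, Int.natCast_nonneg q⟩]; rfl) ≪≫ e₂.symm⟩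
    · obtain ⟨e₂⟩ := hE p q
      refine ⟨IsZero.iso (IsZero.of_iso ?_ (pageOneHomologyIso R p q)) (IsZero.of_iso ?_ e₂)⟩
      · exact (HomologicalComplex.exactAt_iff_isZero_homology _ _).1
          (ShortComplex.exact_of_isZero_X₂ _ (hneg p q h))
      · rw [if_neg h]; exact hO
  refine ⟨prepend R E₂ fun pq => (e pq).some, prependAbutment R E₂ _ α, hfin, fun n => ?_, fun p q => ?_⟩
  · refine (Set.finite_Icc (0 : ℤ) n).subset fun p hp => ?_
    simp only [Set.mem_Icc]
    by_contra hc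
    exact hp (by rw [prepend_page_one_X]; exact hneg p (n - p) (fun h => hc ⟨h.1, by lia⟩))
  · rw [prepend_page_one_X]
    by_cases h : 0 ≤ p ∧ 0 ≤ q
    · rw [if_pos h]
      obtain ⟨p, rfl⟩ := Int.eq_ofNat_of_zero_le h.1
      obtain ⟨q, rfl⟩ := Int.eq_ofNat_of_zero_le h.2
      exact ⟨(M q).extendXIso ComplexShape.embeddingUpNat rfl ≪≫ (eM p q).some⟩
    · rw [if_neg h]
      exact ⟨IsZero.iso (hneg p q h) hO⟩

section Contraction

variable (P : Cᵒᵖ ⥤ AddCommGrpCat.{u})

/-- An extra degeneracy on the values makes the row exact. -/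
theorem rowExact_of_contraction (h : ∀ p : ℕ, K _⦋p⦌ ⟶ K _⦋p + 1⦌) (s : U ⟶ K _⦋0⦌) (hs : s ≫ a = 𝟙 U)
    (h₀ : ∀ p : ℕ, h p ≫ K.δ (0 : Fin (p + 2)) = 𝟙 _)
    (h₁ : h 0 ≫ K.δ (1 : Fin 2) = a ≫ s)
    (hsucc : ∀ (p : ℕ) (i : Fin (p + 2)), h (p + 1) ≫ K.δ i.succ = K.δ i ≫ h p) : RowExact K a P := by
  refine ⟨fun p => ?_, ?_, fun x hx => ⟨(P.map s.op).hom x, ?_⟩⟩
  · rw [((cx K).obj P).exactAt_iff' p (p + 1) (p + 2) (by simp) (by simp), ShortComplex.ab_exact_iff]
    intro (x : P.obj (op (K _⦋p + 1⦌))) hx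
    change (((cx K).obj P).d (p + 1) (p + 1 + 1)).hom x = 0 at hx
    refine ⟨(P.map (h p).op).hom x, ?_⟩
    have hh := congrArg (P.map (h (p + 1)).op).hom hx
    rw [cx_d_apply, map_sum, map_zero, Fin.sum_univ_succ] at hh
    show (((cx K).obj P).d p (p + 1)).hom ((P.map (h p).op).hom x) = x
    rw [cx_d_apply]
    have h0' : (P.map (h (p + 1)).op).hom ((P.map (K.δ (0 : Fin (p + 3))).op).hom x) = x := by
      refine ((ConcreteCategory.comp_apply _ _ x).symm.trans ?_)
      rw [← P.map_comp, ← op_comp, h₀ (p + 1), op_id, P.map_id]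
      rfl
    have hi : ∀ i : Fin (p + 2), (P.map (h (p + 1)).op).hom ((P.map (K.δ i.succ).op).hom x) =
        (P.map (K.δ i).op).hom ((P.map (h p).op).hom x) := fun i => by
      refine ((ConcreteCategory.comp_apply _ _ x).symm.trans ?_)
      rw [← P.map_comp, ← op_comp, hsucc p i, op_comp, P.map_comp]
      rfl
    simp only [Fin.val_zero, pow_zero, one_smul, map_neg, map_zsmul, h0', hi, Fin.val_succ, pow_succ, mul_neg, mul_one,
      neg_smul, Finset.sum_neg_distrib] at hh
    exact (add_neg_eq_zero.1 hh).symm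
  · intro y y' hy
    have hs' : ∀ z, (P.map s.op).hom ((P.map a.op).hom z) = z := fun z => by
      refine ((ConcreteCategory.comp_apply _ _ z).symm.trans ?_)
      rw [← P.map_comp, ← op_comp, hs, op_id, P.map_id]
      rfl
    exact (hs' y).symm.trans ((congrArg (P.map s.op).hom hy).trans (hs' y'))
  · have hh := congrArg (P.map (h 0).op).hom hx
    have e₀ : (P.map (h 0).op).hom ((P.map (K.δ (0 : Fin 2)).op).hom x) = x := by
      refine ((ConcreteCategory.comp_apply _ _ x).symm.trans ?_)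
      rw [← P.map_comp, ← op_comp, h₀ 0, op_id, P.map_id]
      rfl
    have e₁ : (P.map (h 0).op).hom ((P.map (K.δ (1 : Fin 2)).op).hom x) = (P.map a.op).hom ((P.map s.op).hom x) := by
      refine ((ConcreteCategory.comp_apply _ _ x).symm.trans ?_)
      rw [← P.map_comp, ← op_comp, h₁, op_comp, P.map_comp]
      rfl
    exact (e₁.symm.trans (hh.symm.trans e₀))

end Contraction

end Groth.Agent.DescentSS
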