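import Groth.Agent.SiteBase.DescentSS.Site
import Groth.Agent.SiteBase.DescentSS.Engine
import Mathlib.CategoryTheory.Limits.Shapes.WidePullbacks
import Mathlib.Topology.Category.TopCat.Limits.Basic

/-!
# The nerve of a map of spaces on the site of its fibre powers
-/

set_option autoImplicit false
set_option linter.unusedSectionVars false
set_option backward.isDefEq.respectTransparency false

universe u

open CategoryTheory CategoryTheory.Limits Opposite Simplicial TopologicalSpace

noncomputable section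

namespace Groth.Agent.DescentSS

variable {X S : TopCat.{u}} (f : X ⟶ S)

/-- The fibre powers. -/
abbrev powX (p : ℕ) : TopCat.{u} := widePullback S (fun _ : Fin (p + 1) => X) (fun _ => f)

/-- The indexed family of fibre powers. -/
abbrev powZ : ULift.{u} ℕ → TopCat.{u} := fun p => powX f p.down

/-- Their structure maps. -/
abbrev powG : ∀ p, powZ f p ⟶ S := fun p => WidePullback.base (fun _ : Fin (p.down + 1) => f)

/-- The site. -/
abbrev PowOpn : Type u := Opn (powZ f) (powG f)

/-- Its topology. -/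
abbrev powTop : GrothendieckTopology (PowOpn f) := covers (powZ f) (powG f)

/-- The member over an open of the base. -/
abbrev powObj (p : ℕ) (V : Opens S) : PowOpn f :=
  mkObj (powZ f) (powG f) (some ⟨p⟩) (pre (powZ f) (powG f) (some ⟨p⟩) V)

/-- An open of the base. -/
abbrev baseObj (V : Opens S) : PowOpn f := mkObj (powZ f) (powG f) none V

/-- The projection of a point. -/
abbrev prj {p : ℕ} (i : Fin (p + 1)) (y : powX f p) : X := WidePullback.π (fun _ : Fin (p + 1) => f) i y

lemma f_prj {p : ℕ} (i : Fin (p + 1)) (y : powX f p) :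
    f (prj f i y) = powG f ⟨p⟩ y :=
  ConcreteCategory.congr_hom (WidePullback.π_arrow (fun _ : Fin (p + 1) => f) i) y

lemma pow_ext {p : ℕ} {y y' : powX f p} (h : ∀ i, prj f i y = prj f i y') : y = y' := by
  have hb : powG f ⟨p⟩ y = powG f ⟨p⟩ y' := by rw [← f_prj f 0 y, ← f_prj f 0 y', h]
  let c : PUnit.{u + 1} → powX f p := fun _ => y
  let c' : PUnit.{u + 1} → powX f p := fun _ => y'
  have := WidePullback.hom_ext (arrows := fun _ : Fin (p + 1) => f)
    (TopCat.ofHom (X := PUnit.{u + 1}) ⟨c, continuous_const⟩) (TopCat.ofHom (X := PUnit.{u + 1}) ⟨c', continuous_const⟩)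
    (fun i => TopCat.hom_ext (ContinuousMap.ext fun _ => h i)) (TopCat.hom_ext (ContinuousMap.ext fun _ => hb))
  exact ConcreteCategory.congr_hom this PUnit.unit

/-- The underlying map into a fibre power. -/
def liftPow {c : PowOpn f} {p : ℕ} (t : Fin (p + 1) → ((Opens.toTopCat _).obj c.2 ⟶ X))
    (ht : ∀ i x, f (t i x) = str (powZ f) (powG f) c.1 x.1) : (Opens.toTopCat _).obj c.2 ⟶ powX f p :=
  WidePullback.lift (c.2.inclusion' ≫ str (powZ f) (powG f) c.1) t
    fun i => TopCat.hom_ext (ContinuousMap.ext fun x => ht i x)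

lemma base_liftPow {c : PowOpn f} {p : ℕ} (t : Fin (p + 1) → ((Opens.toTopCat _).obj c.2 ⟶ X))
    (ht : ∀ i x, f (t i x) = str (powZ f) (powG f) c.1 x.1) (x : c.2) :
    powG f ⟨p⟩ (liftPow f t ht x) = str (powZ f) (powG f) c.1 x.1 :=
  ConcreteCategory.congr_hom (WidePullback.lift_base (arrows := fun _ : Fin (p + 1) => f)
    (c.2.inclusion' ≫ str (powZ f) (powG f) c.1) t fun i => TopCat.hom_ext (ContinuousMap.ext fun x => ht i x)) x

lemma mem_liftPow {c : PowOpn f} {p : ℕ} (V : Opens S) (t : Fin (p + 1) → ((Opens.toTopCat _).obj c.2 ⟶ X))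
    (ht : ∀ i x, f (t i x) = str (powZ f) (powG f) c.1 x.1)
    (hV : ∀ x : c.2, str (powZ f) (powG f) c.1 x.1 ∈ V) (x : c.2) :
    liftPow f t ht x ∈ pre (powZ f) (powG f) (some ⟨p⟩) V := by
  show powG f ⟨p⟩ (liftPow f t ht x) ∈ V
  rw [base_liftPow]
  exact hV x

/-- A map into a fibre power, given on an open of a member. -/
def intoPow {c : PowOpn f} {p : ℕ} (V : Opens S) (t : Fin (p + 1) → ((Opens.toTopCat _).obj c.2 ⟶ X))
    (ht : ∀ i x, f (t i x) = str (powZ f) (powG f) c.1 x.1)
    (hV : ∀ x : c.2, str (powZ f) (powG f) c.1 x.1 ∈ V) : c ⟶ powObj f p V :=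
  mkHom (powZ f) (powG f) (TopCat.ofHom ⟨fun x => ⟨liftPow f t ht x, mem_liftPow f V t ht hV x⟩,
    Continuous.subtype_mk (liftPow f t ht).hom.continuous _⟩) (base_liftPow f t ht)

lemma prj_intoPow {c : PowOpn f} {p : ℕ} (V : Opens S) (t : Fin (p + 1) → ((Opens.toTopCat _).obj c.2 ⟶ X))
    (ht : ∀ i x, f (t i x) = str (powZ f) (powG f) c.1 x.1)
    (hV : ∀ x : c.2, str (powZ f) (powG f) c.1 x.1 ∈ V) (i : Fin (p + 1)) (x : c.2) :
    prj f i (fn (powZ f) (powG f) (intoPow f V t ht hV) x).1 = t i x :=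
  ConcreteCategory.congr_hom (WidePullback.lift_π (arrows := fun _ : Fin (p + 1) => f)
    (c.2.inclusion' ≫ str (powZ f) (powG f) c.1) t
    (fun i => TopCat.hom_ext (ContinuousMap.ext fun x => ht i x)) i) x

lemma hom_ext_pow {c : PowOpn f} {p : ℕ} {V : Opens S} {a b : c ⟶ powObj f p V}
    (h : ∀ i x, prj f i (fn (powZ f) (powG f) a x).1 = prj f i (fn (powZ f) (powG f) b x).1) : a = b :=
  opn_hom_ext (powZ f) (powG f) fun x => pow_ext f fun i => h i x

lemma hom_ext_base {c : PowOpn f} {V : Opens S} (a b : c ⟶ baseObj f V) : a = b :=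
  opn_hom_ext (powZ f) (powG f) fun x =>
    (fn_w (powZ f) (powG f) a x).trans (fn_w (powZ f) (powG f) b x).symm

/-- The projection as a continuous map on a member. -/
def prjHom {p : ℕ} (V : Opens S) (i : Fin (p + 1)) : (Opens.toTopCat _).obj (powObj f p V).2 ⟶ X :=
  (powObj f p V).2.inclusion' ≫ WidePullback.π (fun _ : Fin (p + 1) => f) i

/-- Reindexing. -/
def reidx {m n : ℕ} (φ : Fin (m + 1) → Fin (n + 1)) (V : Opens S) : powObj f n V ⟶ powObj f m V :=
  intoPow f V (fun i => prjHom f V (φ i)) (fun i x => f_prj f (φ i) x.1) fun x => x.2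

lemma prj_reidx {m n : ℕ} (φ : Fin (m + 1) → Fin (n + 1)) (V : Opens S) (i : Fin (m + 1)) (x : (powObj f n V).2) :
    prj f i (fn (powZ f) (powG f) (reidx f φ V) x).1 = prj f (φ i) x.1 :=
  prj_intoPow f V _ _ _ i x

/-- The members over one open, as a simplicial object. -/
def nerve (V : Opens S) : SimplicialObject (PowOpn f) where
  obj n := powObj f n.unop.len V
  map φ := reidx f φ.unop.toOrderHom V
  map_id n := hom_ext_pow f fun i x => (prj_reidx f _ V i x).trans rfl
  map_comp φ ψ := hom_ext_pow f fun i x => by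
    refine (prj_reidx f _ V i x).trans ?_
    exact ((prj_reidx f ψ.unop.toOrderHom V i _).trans (prj_reidx f φ.unop.toOrderHom V _ x)).symm

/-- The augmentation. -/
def aug (V : Opens S) : (nerve f V) _⦋0⦌ ⟶ baseObj f V :=
  toBase (powZ f) (powG f) (some ⟨0⟩) V

lemma aug_w (V : Opens S) : (nerve f V).δ (0 : Fin 2) ≫ aug f V = (nerve f V).δ (1 : Fin 2) ≫ aug f V :=
  hom_ext_base f _ _

/-- A section of `f` over `V`. -/
structure Sec (V : Opens S) where
  map : (Opens.toTopCat S).obj V ⟶ X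
  w : ∀ x, f (map x) = x.1

variable {f}

/-- The induced section. -/
def Sec.hom {V : Opens S} (σ : Sec f V) : baseObj f V ⟶ (nerve f V) _⦋0⦌ :=
  intoPow f V (fun _ => σ.map) (fun _ x => σ.w x) fun x => x.2

/-- The section composed with the structure map. -/
def Sec.onPow {V : Opens S} (σ : Sec f V) (p : ℕ) : (Opens.toTopCat _).obj (powObj f p V).2 ⟶ X :=
  fn (powZ f) (powG f) (toBase (powZ f) (powG f) (some ⟨p⟩) V) ≫ σ.map

/-- The extra degeneracy. -/
def Sec.extra {V : Opens S} (σ : Sec f V) (p : ℕ) : (nerve f V) _⦋p⦌ ⟶ (nerve f V) _⦋p + 1⦌ :=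
  intoPow f V (Fin.cons (σ.onPow p) fun i => prjHom f V i)
    (fun i x => by
      induction i using Fin.cases with
      | zero => exact σ.w _
      | succ i => exact f_prj f i x.1)
    fun x => x.2

lemma Sec.prj_extra {V : Opens S} (σ : Sec f V) (p : ℕ) (i : Fin (p + 2)) (x : (powObj f p V).2) :
    prj f i (fn (powZ f) (powG f) (σ.extra p) x).1 =
      (Fin.cons (σ.onPow p) (fun i => prjHom f V i) : Fin (p + 2) → ((Opens.toTopCat _).obj (powObj f p V).2 ⟶ X)) i x :=
  prj_intoPow f V _ _ _ i x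

/-- Over an open with a section every row is exact. -/
theorem Sec.rowExact {V : Opens S} (σ : Sec f V) (P : (PowOpn f)ᵒᵖ ⥤ AddCommGrpCat.{u}) :
    RowExact (nerve f V) (aug f V) P := by
  refine rowExact_of_contraction (nerve f V) (aug f V) P σ.extra σ.hom (hom_ext_base f _ _)
    (fun p => hom_ext_pow f fun i x => ?_) (hom_ext_pow f fun i x => ?_)
    (fun p j => hom_ext_pow f fun i x => ?_)
  · refine (prj_reidx f (SimplexCategory.δ (0 : Fin (p + 2))).toOrderHom V i _).trans ?_
    refine (σ.prj_extra p _ x).trans ?_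
    show (Fin.cons (σ.onPow p) (fun i => prjHom f V i) : Fin (p + 2) → _) ((0 : Fin (p + 2)).succAbove i) x = _
    rw [Fin.succAbove_zero, Fin.cons_succ]
    rfl
  · refine (prj_reidx f (SimplexCategory.δ (1 : Fin 2)).toOrderHom V i _).trans ?_
    refine (σ.prj_extra 0 _ x).trans ?_
    refine Eq.trans ?_ (prj_intoPow (c := baseObj f V) f V (fun _ => σ.map) (fun _ x => σ.w x) (fun x => x.2) i _).symm
    show (Fin.cons (σ.onPow 0) (fun i => prjHom f V i) : Fin 2 → _) ((1 : Fin 2).succAbove i) x = _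
    rw [show (1 : Fin 2).succAbove i = 0 by fin_cases i; rfl, Fin.cons_zero]
    rfl
  · refine (prj_reidx f (SimplexCategory.δ j.succ).toOrderHom V i _).trans ?_
    refine (σ.prj_extra (p + 1) _ x).trans ?_
    refine Eq.trans ?_ (σ.prj_extra p i _).symm
    show (Fin.cons (σ.onPow (p + 1)) (fun i => prjHom f V i) : Fin (p + 3) → _) (j.succ.succAbove i) x = _
    induction i using Fin.cases with
    | zero =>
      rw [Fin.succ_succAbove_zero, Fin.cons_zero, Fin.cons_zero]
      refine congrArg σ.map (Subtype.ext ?_)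
      exact (fn_w (powZ f) (powG f) ((nerve f V).δ j) x).symm
    | succ i =>
      rw [Fin.succ_succAbove_succ, Fin.cons_succ, Fin.cons_succ]
      exact (prj_reidx f (SimplexCategory.δ j).toOrderHom V i x).symm

variable (f)

/-- The spectral sequence, given exact rows on injective sheaves. -/
theorem exists_ss_of_rowExact
    (hI : ∀ I : Sheaf (powTop f) AddCommGrpCat.{u}, Injective I → RowExact (nerve f ⊤) (aug f ⊤) I.obj)
    (F : CohTop.Ab S) :
    ∃ (E : CohomologicalSpectralSequence AddCommGrpCat.{u} 1)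
      (a : SpSeq.Abutment E (fun n : ℤ =>
        if 0 ≤ n then AddCommGrpCat.of (CohTop.H F n.toNat) else AddCommGrpCat.of PUnit.{u + 1})),
      (∀ n, a.IsFinite n) ∧ SpSeq.IsBounded E ∧
      ∀ p q : ℤ, Nonempty ((E.page 1 le_rfl).X (p, q) ≅
        (if 0 ≤ p ∧ 0 ≤ q then
          AddCommGrpCat.of (CohTop.H ((CohTop.pull
            (WidePullback.base (fun _ : Fin (p.toNat + 1) => f) :
              widePullback S (fun _ : Fin (p.toNat + 1) => X) (fun _ => f) ⟶ S)).obj F) q.toNat)
         else AddCommGrpCat.of PUnit.{u + 1})) := by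
  have hpull : ∀ n, Nonempty (AddCommGrpCat.of (CohTop.H ((CohTop.pull (𝟙 S)).obj F) n) ≅
      AddCommGrpCat.of (CohTop.H F n)) := fun n =>
    let i : (CohTop.pull (𝟙 S)).obj F ≅ F :=
      ((TopCat.Sheaf.pullbackPushforwardAdjunction AddCommGrpCat.{u} (𝟙 S)).leftAdjointUniq
        (Adjunction.id.ofNatIsoRight (Iso.refl _))).app F
    let e := (((Sheaf.cohomologyPresheafFunctor.{u} (Opens.grothendieckTopology S) n).mapIso i).app
      (op ⊤)).addCommGroupIsoToAddEquiv
    ⟨((SiteBase.huTerminalEquiv isTerminalTop _ n).symm.trans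
      (e.trans (SiteBase.huTerminalEquiv isTerminalTop _ n))).toAddCommGrpIso⟩
  exact exists_spectralSequence (nerve f ⊤) (aug f ⊤) (aug_w f ⊤) hI
    ((fromBase (powZ f) (powG f)).obj F) (fun n => AddCommGrpCat.of (CohTop.H F n))
    (fun n => ⟨(nonempty_H_pull_iso (powZ f) (powG f) none F n).some ≪≫ (hpull n).some⟩)
    (fun p q => AddCommGrpCat.of (CohTop.H ((CohTop.pull
      (WidePullback.base (fun _ : Fin (p + 1) => f) : powX f p ⟶ S)).obj F) q))
    (fun p q => nonempty_H_pull_iso (powZ f) (powG f) (some ⟨p⟩) F q)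

end Groth.Agent.DescentSS
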