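import Groth.Agent.SiteBase.CompareSit.CycleSeq
import Groth.Agent.SiteBase.Top
import Mathlib.Algebra.Homology.ShortComplex.Ab

/-!
# Sections of exact complexes of flasque objects
-/

set_option autoImplicit false

universe u v w

open CategoryTheory CategoryTheory.Limits Opposite TopologicalSpace

noncomputable section

namespace Groth.Agent.DescentSS

variable {A : Type v} [Category.{w} A] [Abelian A] (G : A ⥤ AddCommGrpCat.{u}) [G.Additive] [PreservesFiniteLimits G]
  (P : A → Prop) (hiso : ∀ {M N : A}, (M ≅ N) → P M → P N)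
  (h3 : ∀ S : ShortComplex A, S.ShortExact → P S.X₁ → P S.X₂ → P S.X₃)
  (hsurj : ∀ S : ShortComplex A, S.ShortExact → P S.X₁ → Function.Surjective (G.map S.g).hom)
  (D : CochainComplex A ℕ) (hD : ∀ n, P (D.X n)) (hex : ∀ p, D.ExactAt (p + 1))

include hiso h3 hD hex in
lemma prop_cycles (h0 : P (D.cycles 0)) : ∀ k, P (D.cycles k)
  | 0 => h0
  | k + 1 => by
    have := CompareSit.isIso_kernel_ι_of_isZero D (k + 1)
      ((HomologicalComplex.exactAt_iff_isZero_homology _ _).1 (hex k))
    exact hiso (asIso (kernel.ι (D.homologyπ (k + 1))))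
      (h3 _ (CompareSit.sesZ_shortExact D k) (prop_cycles h0 k) (hD k))

include hiso h3 hsurj hD hex in
/-- Sections of an exact complex of flasque objects are exact. -/
theorem exact_sections (h0 : P (D.cycles 0)) (p : ℕ) :
    ((G.mapHomologicalComplex (ComplexShape.up ℕ)).obj D).ExactAt (p + 1) := by
  rw [HomologicalComplex.exactAt_iff' _ p (p + 1) (p + 2) (by simp) (by simp), ShortComplex.ab_exact_iff]
  intro x hx
  have hk : ((ShortComplex.mk (D.iCycles (p + 1)) (D.d (p + 1) (p + 2))
      (D.iCycles_d (p + 1) (p + 2))).map G).Exact :=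
    ShortComplex.exact_of_f_is_kernel _
      (KernelFork.mapIsLimit _ (D.cyclesIsKernel (p + 1) (p + 2) (by simp)) G)
  obtain ⟨z, hz⟩ := (ShortComplex.ab_exact_iff _).1 hk x hx
  have := CompareSit.isIso_kernel_ι_of_isZero D (p + 1)
    ((HomologicalComplex.exactAt_iff_isZero_homology _ _).1 (hex p))
  have hS := CompareSit.sesZ_shortExact D p
  let b := (G.map (inv (kernel.ι (D.homologyπ (p + 1))))).hom z
  obtain ⟨y, hy⟩ := hsurj _ hS (prop_cycles P hiso h3 D hD hex h0 p) b
  refine ⟨y, ?_⟩
  show (G.map (D.d p (p + 1))).hom y = x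
  rw [← CompareSit.toBd_ι_i D p, Functor.map_comp, Functor.map_comp]
  refine Eq.trans ?_ hz
  refine congrArg (G.map (D.iCycles (p + 1))).hom ?_
  refine (congrArg (G.map (kernel.ι (D.homologyπ (p + 1)))).hom hy).trans ?_
  show (G.map (inv (kernel.ι (D.homologyπ (p + 1)))) ≫ G.map (kernel.ι (D.homologyπ (p + 1)))).hom z = z
  rw [← Functor.map_comp, IsIso.inv_hom_id, CategoryTheory.Functor.map_id]
  rfl

lemma isFlasque_of_iso {X : TopCat.{u}} {F G : CohTop.Ab X} (e : F ≅ G) (h : TopCat.Sheaf.IsFlasque F) :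
    TopCat.Sheaf.IsFlasque G where
  epi {U V} i := by
    have hn := e.hom.hom.naturality i
    have hG : G.obj.map i = e.inv.hom.app U ≫ F.obj.map i ≫ e.hom.hom.app V := by
      rw [hn, ← Category.assoc, show e.inv.hom.app U ≫ e.hom.hom.app U = 𝟙 _ from
        congrArg (fun t => t.hom.app U) e.inv_hom_id, Category.id_comp]
    have : Epi (F.obj.map i) := h.epi i
    have : IsIso e.inv.hom := inferInstanceAs (IsIso ((sheafToPresheaf _ _).map e.inv))
    have : IsIso e.hom.hom := inferInstanceAs (IsIso ((sheafToPresheaf _ _).map e.hom))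
    show Epi (G.obj.map i)
    rw [hG]
    infer_instance

end Groth.Agent.DescentSS
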