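import Groth.Agent.SiteBase.DescentSS.Nerve
import Groth.Agent.SiteBase.DescentSS.Flasque
import Mathlib.Algebra.Category.Grp.Abelian

/-!
# Maps with local sections: exactness of the rows on injective sheaves
-/

set_option autoImplicit false
set_option linter.unusedSectionVars false
set_option backward.isDefEq.respectTransparency false

universe u

open CategoryTheory CategoryTheory.Limits Opposite Simplicial TopologicalSpace AlgebraicTopology

noncomputable section

namespace Groth.Agent.DescentSS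

variable {X S : TopCat.{u}} (f : X ⟶ S)

/-- A section restricts to smaller opens. -/
def Sec.restrict {V W : Opens S} (σ : Sec f V) (h : W ≤ V) : Sec f W where
  map := (Opens.toTopCat S).map (homOfLE h) ≫ σ.map
  w x := σ.w _

lemma opens_separated {Y : TopCat.{u}} (F : CohTop.Ab Y) {U : Opens Y} (s : F.obj.obj (op U))
    (h : ∀ x, x ∈ U → ∃ (V : Opens Y) (hV : V ≤ U), x ∈ V ∧ (F.obj.map (homOfLE hV).op).hom s = 0) : s = 0 := by
  let R : Sieve U :=
    { arrows := fun V i => (F.obj.map i.op).hom s = 0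
      downward_closed := fun {V W i} hi j => by
        show (F.obj.map (j ≫ i).op).hom s = 0
        rw [op_comp, F.obj.map_comp]
        exact (congrArg (F.obj.map j.op).hom hi).trans (map_zero _) }
  have hR : R ∈ (Opens.grothendieckTopology Y) U := fun x hx => by
    obtain ⟨V, hV, hxV, e⟩ := h x hx
    exact ⟨V, homOfLE hV, e, hxV⟩
  exact ((((isSheaf_iff_isSheaf_of_type _ _).1
    ((Presheaf.isSheaf_iff_isSheaf_forget _ F.obj (forget AddCommGrpCat.{u})).1 F.2)) R hR)).isSeparatedFor.ext
    fun V i hi => (hi : (F.obj.map i.op).hom s = 0).trans (map_zero (F.obj.map i.op).hom).symm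

variable (I : Sheaf (powTop f) AddCommGrpCat.{u})

/-- The terms of the row as sheaves on the base. -/
abbrev term (n : ℕ) : CohTop.Ab S :=
  (CohTop.push (powG f ⟨n⟩)).obj ((resTo (powZ f) (powG f) (some ⟨n⟩)).obj I)

lemma term_obj (n : ℕ) (V : Opens S) : (term f I n).obj.obj (op V) = I.obj.obj (op (powObj f n V)) := rfl

/-- Maps of the row. -/
def termMap {m n : ℕ} (φ : Fin (m + 1) → Fin (n + 1)) : term f I m ⟶ term f I n :=
  ⟨{ app := fun V => I.obj.map (reidx f φ V.unop).op
     naturality := fun V W k => by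
      refine (I.obj.map_comp _ _).symm.trans (Eq.trans ?_ (I.obj.map_comp _ _))
      refine congrArg (fun t => I.obj.map (Quiver.Hom.op t)) (hom_ext_pow f fun i x => ?_)
      exact (prj_reidx f φ W.unop i x).trans (prj_reidx f φ V.unop i
        (fn (powZ f) (powG f) ((opnFunctor (powZ f) (powG f) (some ⟨n⟩)).map
          ((Opens.map (powG f ⟨n⟩)).map k.unop)) x)).symm }⟩

/-- The row as a cosimplicial sheaf. -/
def rowObj : CosimplicialObject (CohTop.Ab S) where
  obj n := term f I n.len
  map φ := termMap f I φ.toOrderHom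
  map_id n := Sheaf.hom_ext (NatTrans.ext (funext fun V => by
    show I.obj.map (reidx f (fun i => i) V.unop).op = 𝟙 (I.obj.obj (op (powObj f n.len V.unop)))
    rw [show reidx f (fun i : Fin (n.len + 1) => i) V.unop = 𝟙 _ from
      hom_ext_pow f fun i x => (prj_reidx f _ V.unop i x).trans rfl, op_id, I.obj.map_id]))
  map_comp {a b c} φ ψ := Sheaf.hom_ext (NatTrans.ext (funext fun V => by
    show I.obj.map (reidx f _ V.unop).op =
      I.obj.map (reidx f φ.toOrderHom V.unop).op ≫ I.obj.map (reidx f ψ.toOrderHom V.unop).op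
    rw [← I.obj.map_comp, ← op_comp]
    refine congrArg (fun t => I.obj.map (Quiver.Hom.op t)) (hom_ext_pow f fun i x => ?_)
    refine (prj_reidx f _ V.unop i x).trans ?_
    exact ((prj_reidx f φ.toOrderHom V.unop i _).trans (prj_reidx f ψ.toOrderHom V.unop _ x)).symm))

/-- The row as a complex of sheaves on the base. -/
abbrev rowCx : CochainComplex (CohTop.Ab S) ℕ :=
  (alternatingCofaceMapComplex (CohTop.Ab S)).obj (rowObj f I)

/-- Sections over an open. -/
abbrev secS (V : Opens S) : CohTop.Ab S ⥤ AddCommGrpCat.{u} :=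
  sheafToPresheaf (Opens.grothendieckTopology S) AddCommGrpCat.{u} ⋙ (evaluation _ _).obj (op V)

lemma rowCx_d (V : Opens S) (n : ℕ) :
    (secS V).map ((rowCx f I).d n (n + 1)) = ((cx (nerve f V)).obj I.obj).d n (n + 1) := by
  have h : (rowCx f I).d n (n + 1) = ∑ i : Fin (n + 2), (-1 : ℤ) ^ (i : ℕ) • (rowObj f I).δ i :=
    CochainComplex.of_d (fun n : ℕ => (rowObj f I).obj ⦋n⦌)
      (fun n => ∑ i : Fin (n + 2), (-1 : ℤ) ^ (i : ℕ) • (rowObj f I).δ i) n
  rw [h, Functor.map_sum, cx_d]
  refine Finset.sum_congr rfl fun i _ => ?_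
  rw [Functor.map_zsmul]
  rfl

/-- The augmentation of the row. -/
def augMap : (resTo (powZ f) (powG f) none).obj I ⟶ term f I 0 :=
  ⟨{ app := fun V => I.obj.map (aug f V.unop).op
     naturality := fun V W k =>
      (I.obj.map_comp _ _).symm.trans ((congrArg (fun t => I.obj.map (Quiver.Hom.op t))
        (hom_ext_base f _ _)).trans (I.obj.map_comp _ _)) }⟩

lemma augMap_d : augMap f I ≫ (rowCx f I).d 0 1 = 0 := by
  refine Sheaf.hom_ext (NatTrans.ext (funext fun V => ?_))
  exact (congrArg (I.obj.map (aug f V.unop).op ≫ ·) (rowCx_d f I V.unop 0)).trans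
    (aug_d (nerve f V.unop) (aug f V.unop) (aug_w f V.unop) I.obj)

/-- The augmentation into the cycles. -/
def augCycles : (resTo (powZ f) (powG f) none).obj I ⟶ (rowCx f I).cycles 0 :=
  (rowCx f I).liftCycles (augMap f I) 1 (by simp) (augMap_d f I)

lemma augCycles_i : augCycles f I ≫ (rowCx f I).iCycles 0 = augMap f I := (rowCx f I).liftCycles_i _ _ _ _

lemma sections_injective_of_mono {A B : CohTop.Ab S} (φ : A ⟶ B) [Mono φ] (V : Opens S) :
    Function.Injective ((secS V).map φ).hom :=
  (AddCommGrpCat.mono_iff_injective _).1 inferInstance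

lemma d_iCycles_apply (V : Opens S) (n : ℕ) (z : (secS V).obj ((rowCx f I).cycles n)) :
    (((cx (nerve f V)).obj I.obj).d n (n + 1)).hom (((secS V).map ((rowCx f I).iCycles n)).hom z) = 0 := by
  rw [← rowCx_d]
  show ((secS V).map ((rowCx f I).iCycles n) ≫ (secS V).map ((rowCx f I).d n (n + 1))).hom z = 0
  rw [← Functor.map_comp, HomologicalComplex.iCycles_d, Functor.map_zero]
  rfl

variable (hloc : ∀ x : S, ∃ V : Opens S, x ∈ V ∧ Nonempty (Sec f V))

include hloc

lemma exists_small {V : Opens S} {x : S} (hx : x ∈ V) :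
    ∃ (W : Opens S) (hW : W ≤ V), x ∈ W ∧ Nonempty (Sec f W) := by
  obtain ⟨W, hxW, ⟨σ⟩⟩ := hloc x
  exact ⟨W ⊓ V, inf_le_right, ⟨hxW, hx⟩, ⟨σ.restrict f inf_le_left⟩⟩

lemma exactAt_rowCx (p : ℕ) : (rowCx f I).ExactAt (p + 1) := by
  let D := rowCx f I
  rw [D.exactAt_iff_isZero_homology]
  suffices h : Epi (D.toCycles p (p + 1)) by
    rw [IsZero.iff_id_eq_zero, ← cancel_epi (D.homologyπ (p + 1)), ← cancel_epi (D.toCycles p (p + 1))]
    simp
  refine (Sheaf.isLocallySurjective_iff_epi' _ (D.toCycles p (p + 1))).1 ⟨fun {V} z => ?_⟩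
  intro x hx
  obtain ⟨W, hW, hxW, ⟨σ⟩⟩ := exists_small f hloc hx
  refine ⟨W, homOfLE hW, ?_, hxW⟩
  let z' : (secS W).obj (D.cycles (p + 1)) := ((D.cycles (p + 1)).obj.map (homOfLE hW).op).hom z
  have hrow := (σ.rowExact I.obj).exact_succ p
  rw [HomologicalComplex.exactAt_iff' _ p (p + 1) (p + 2) (by simp) (by simp), ShortComplex.ab_exact_iff] at hrow
  obtain ⟨y, hy⟩ := hrow (((secS W).map (D.iCycles (p + 1))).hom z') (d_iCycles_apply f I W (p + 1) z')
  refine ⟨y, sections_injective_of_mono (D.iCycles (p + 1)) W ?_⟩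
  show ((secS W).map (D.toCycles p (p + 1)) ≫ (secS W).map (D.iCycles (p + 1))).hom y = _
  rw [← Functor.map_comp, D.toCycles_i, rowCx_d]
  exact hy

lemma injective_augMap (V : Opens S) : Function.Injective ((secS V).map (augMap f I)).hom := by
  rw [injective_iff_map_eq_zero]
  intro s hs
  refine opens_separated ((resTo (powZ f) (powG f) none).obj I) s fun x hx => ?_
  obtain ⟨W, hW, hxW, ⟨σ⟩⟩ := exists_small f hloc hx
  refine ⟨W, hW, hxW, (σ.rowExact I.obj).injective ?_⟩
  refine (ConcreteCategory.congr_hom ((augMap f I).hom.naturality (homOfLE hW).op) s).trans ?_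
  exact ((congrArg (((term f I 0).obj.map (homOfLE hW).op).hom) hs).trans (map_zero _)).trans (map_zero _).symm

lemma isIso_augCycles : IsIso (augCycles f I) := by
  have : Mono (augMap f I) := by
    have h : ∀ V, Mono ((augMap f I).hom.app V) := fun V =>
      (AddCommGrpCat.mono_iff_injective _).2 (injective_augMap f I hloc V.unop)
    have : Mono (augMap f I).hom := NatTrans.mono_of_mono_app _
    exact (sheafToPresheaf _ _).mono_of_mono_map this
  have : Mono (augCycles f I) := mono_of_mono_fac (augCycles_i f I)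
  have : Epi (augCycles f I) := by
    refine (Sheaf.isLocallySurjective_iff_epi' _ (augCycles f I)).1 ⟨fun {V} z => ?_⟩
    intro x hx
    obtain ⟨W, hW, hxW, ⟨σ⟩⟩ := exists_small f hloc hx
    refine ⟨W, homOfLE hW, ?_, hxW⟩
    let z' : (secS W).obj ((rowCx f I).cycles 0) := (((rowCx f I).cycles 0).obj.map (homOfLE hW).op).hom z
    have hd := d_iCycles_apply f I W 0 z'
    rw [cx_d_apply, Fin.sum_univ_two] at hd
    simp only [Fin.val_zero, pow_zero, one_smul, Fin.val_one, pow_one, neg_smul] at hd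
    obtain ⟨y, hy⟩ := (σ.rowExact I.obj).surjective _ (eq_of_sub_eq_zero ((sub_eq_add_neg _ _).trans hd))
    refine ⟨y, sections_injective_of_mono ((rowCx f I).iCycles 0) W ?_⟩
    show ((secS W).map (augCycles f I) ≫ (secS W).map ((rowCx f I).iCycles 0)).hom y = _
    rw [← Functor.map_comp, augCycles_i]
    exact hy
  exact isIso_of_mono_of_epi _

/-- The higher global sections of the row are exact. -/
lemma exactAt_sections (hI : Injective I) (p : ℕ) :
    (((secS (S := S) ⊤).mapHomologicalComplex (ComplexShape.up ℕ)).obj (rowCx f I)).ExactAt (p + 1) := by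
  have hfl : ∀ n, TopCat.Sheaf.IsFlasque (term f I n) := fun n =>
    haveI := isFlasque_resTo (powZ f) (powG f) (some ⟨n⟩) I
    inferInstanceAs (TopCat.Sheaf.IsFlasque ((CohTop.push (powG f ⟨n⟩)).obj _))
  have := isIso_augCycles f I hloc
  have h0 : TopCat.Sheaf.IsFlasque ((rowCx f I).cycles 0) :=
    isFlasque_of_iso (asIso (augCycles f I)) (isFlasque_resTo (powZ f) (powG f) none I)
  exact exact_sections (A := CohTop.Ab S) (secS ⊤) (fun M => TopCat.Sheaf.IsFlasque M)
    (fun e h => isFlasque_of_iso e h)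
    (fun S' hS h1 h2 => @TopCat.Sheaf.IsFlasque.of_shortExact_of_isFlasque₁₂ _ S' hS h1 h2)
    (fun S' hS h1 => (AddCommGrpCat.epi_iff_surjective _).mp
      (@TopCat.Sheaf.IsFlasque.epi_of_shortExact _ _ S' hS h1))
    (rowCx f I) hfl (exactAt_rowCx f I hloc) h0 p

/-- The global row is exact on injective sheaves. -/
theorem rowExact_top (hI : Injective I) : RowExact (nerve f ⊤) (aug f ⊤) I.obj := by
  have := isIso_augCycles f I hloc
  refine ⟨fun p => ?_, injective_augMap f I hloc ⊤, fun x hx => ?_⟩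
  · have h := exactAt_sections f I hloc hI p
    rw [HomologicalComplex.exactAt_iff' _ p (p + 1) (p + 2) (by simp) (by simp), ShortComplex.ab_exact_iff] at h ⊢
    intro x hx
    obtain ⟨y, hy⟩ := h x (by
      show ((secS ⊤).map ((rowCx f I).d (p + 1) (p + 1 + 1))).hom x = 0
      rw [rowCx_d]; exact hx)
    refine ⟨y, ?_⟩
    show (((cx (nerve f ⊤)).obj I.obj).d p (p + 1)).hom y = x
    rw [← rowCx_d]; exact hy
  · have hx' : ((secS ⊤).map ((rowCx f I).d 0 1)).hom x = 0 := by
      rw [rowCx_d]
      refine (cx_d_apply (nerve f ⊤) I.obj 0 x).trans ?_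
      rw [Fin.sum_univ_two]
      simp only [Fin.val_zero, pow_zero, one_smul, Fin.val_one, pow_one, neg_smul]
      rw [← sub_eq_add_neg, sub_eq_zero]
      exact hx
    have hk : ((ShortComplex.mk ((rowCx f I).iCycles 0) ((rowCx f I).d 0 1)
        ((rowCx f I).iCycles_d 0 1)).map (secS ⊤)).Exact :=
      ShortComplex.exact_of_f_is_kernel _
        (KernelFork.mapIsLimit _ ((rowCx f I).cyclesIsKernel 0 1 (by simp)) (secS ⊤))
    obtain ⟨z, hz⟩ := (ShortComplex.ab_exact_iff _).1 hk x hx'
    refine ⟨((secS ⊤).map (inv (augCycles f I))).hom z, ?_⟩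
    refine Eq.trans ?_ hz
    show ((secS ⊤).map (inv (augCycles f I)) ≫ (secS ⊤).map (augMap f I)).hom z = _
    rw [← Functor.map_comp, ← augCycles_i f I, IsIso.inv_hom_id_assoc]
    rfl

end Groth.Agent.DescentSS
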