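import Groth.Agent.SiteBase.ClosedEmb
import Groth.Agent.SiteBase.Derived
import Groth.Agent.SiteBase.DerivedComp
import Groth.Agent.SiteBase.CompareSit.CycleSeq
import Groth.Agent.BigSiteLib.FppfDesc.LocExact
import Mathlib.Topology.LocallyFinite
import Mathlib.Algebra.Homology.ShortComplex.ConcreteCategory

/-!
# Cohomology of a locally finite product of closed direct images
-/

set_option autoImplicit false
set_option linter.unusedSectionVars false
set_option backward.isDefEq.respectTransparency false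

universe u

open CategoryTheory CategoryTheory.Limits Opposite TopologicalSpace

noncomputable section

namespace Groth.Agent.DescentSS

section AbHomology

variable {ι : Type u} (L : CochainComplex AddCommGrpCat.{u} ℕ) (M : ι → CochainComplex AddCommGrpCat.{u} ℕ)
  (π : ∀ σ, L ⟶ M σ)

lemma exists_cycle (K : CochainComplex AddCommGrpCat.{u} ℕ) (q : ℕ) (x : K.X q)
    (hx : (K.d q (q + 1)).hom x = 0) : ∃ z, (K.iCycles q).hom z = x :=
  (ShortComplex.ab_exact_iff _).1
    (ShortComplex.exact_of_f_is_kernel (ShortComplex.mk _ _ (K.iCycles_d q (q + 1)))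
      (K.cyclesIsKernel q (q + 1) (by simp))) x hx

lemma exists_toCycles (K : CochainComplex AddCommGrpCat.{u} ℕ) (q : ℕ) (z : K.cycles q)
    (hz : (K.homologyπ q).hom z = 0) :
    ∃ y, (K.toCycles ((ComplexShape.up ℕ).prev q) q).hom y = z :=
  (ShortComplex.ab_exact_iff _).1
    (ShortComplex.exact_of_g_is_cokernel (ShortComplex.mk _ _ (K.toCycles_comp_homologyπ ((ComplexShape.up ℕ).prev q) q))
      (K.homologyIsCokernel _ q rfl)) z hz

/-- Homology of a product of complexes of abelian groups. -/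
theorem bijective_homology_of_product
    (hπ : ∀ n, Function.Bijective fun (x : L.X n) (σ : ι) => ((π σ).f n).hom x) (q : ℕ) :
    Function.Bijective (fun (x : L.homology q) (σ : ι) => (HomologicalComplex.homologyMap (π σ) q).hom x) := by
  have hi : ∀ (K : CochainComplex AddCommGrpCat.{u} ℕ), Function.Injective (K.iCycles q).hom := fun K =>
    (AddCommGrpCat.mono_iff_injective _).1 inferInstance
  have hs : ∀ (K : CochainComplex AddCommGrpCat.{u} ℕ), Function.Surjective (K.homologyπ q).hom := fun K =>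
    (AddCommGrpCat.epi_iff_surjective _).1 inferInstance
  have hn : ∀ σ z, (HomologicalComplex.homologyMap (π σ) q).hom ((L.homologyπ q).hom z) =
      ((M σ).homologyπ q).hom ((HomologicalComplex.cyclesMap (π σ) q).hom z) := fun σ z =>
    ConcreteCategory.congr_hom (HomologicalComplex.homologyπ_naturality (π σ) q) z
  have hc : ∀ σ z, ((M σ).iCycles q).hom ((HomologicalComplex.cyclesMap (π σ) q).hom z) =
      ((π σ).f q).hom ((L.iCycles q).hom z) := fun σ z =>
    ConcreteCategory.congr_hom (HomologicalComplex.cyclesMap_i (π σ) q) z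
  constructor
  · intro a b hab
    obtain ⟨a, rfl⟩ := hs L a
    obtain ⟨b, rfl⟩ := hs L b
    rw [← sub_eq_zero, ← map_sub]
    have h0 : ∀ σ, ((M σ).homologyπ q).hom ((HomologicalComplex.cyclesMap (π σ) q).hom (a - b)) = 0 := fun σ => by
      rw [← hn, map_sub, map_sub, sub_eq_zero]
      exact congrFun hab σ
    choose y hy using fun σ => exists_toCycles (M σ) q _ (h0 σ)
    obtain ⟨y', hy'⟩ := (hπ ((ComplexShape.up ℕ).prev q)).2 y
    have e : (L.toCycles ((ComplexShape.up ℕ).prev q) q).hom y' = a - b := by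
      refine hi L ((hπ q).1 (funext fun σ => ?_))
      show ((π σ).f q).hom _ = ((π σ).f q).hom _
      rw [← hc σ (a - b), ← hy σ, ← congrFun hy' σ]
      refine (congrArg ((π σ).f q).hom
        (ConcreteCategory.congr_hom (L.toCycles_i ((ComplexShape.up ℕ).prev q) q) y')).trans ?_
      refine Eq.trans ?_ (ConcreteCategory.congr_hom ((M σ).toCycles_i ((ComplexShape.up ℕ).prev q) q) _).symm
      exact (ConcreteCategory.congr_hom ((π σ).comm ((ComplexShape.up ℕ).prev q) q) y').symm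
    rw [← e]
    exact ConcreteCategory.congr_hom (L.toCycles_comp_homologyπ _ q) y'
  · intro c
    choose z hz using fun σ => hs (M σ) (c σ)
    obtain ⟨x, hx⟩ := (hπ q).2 (fun σ => ((M σ).iCycles q).hom (z σ))
    have hx0 : (L.d q (q + 1)).hom x = 0 := by
      refine (hπ (q + 1)).1 (funext fun σ => ?_)
      show ((π σ).f (q + 1)).hom _ = ((π σ).f (q + 1)).hom 0
      rw [map_zero]
      refine (ConcreteCategory.congr_hom ((π σ).comm q (q + 1)) x).symm.trans ?_
      refine (congrArg ((M σ).d q (q + 1)).hom (congrFun hx σ)).trans ?_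
      exact ConcreteCategory.congr_hom ((M σ).iCycles_d q (q + 1)) (z σ)
    obtain ⟨w, rfl⟩ := exists_cycle L q x hx0
    refine ⟨(L.homologyπ q).hom w, funext fun σ => ?_⟩
    refine (hn σ w).trans (Eq.trans ?_ (hz σ))
    exact congrArg ((M σ).homologyπ q).hom (hi (M σ) ((hc σ w).trans (congrFun hx σ)))

end AbHomology

/-- Sections over an open. -/
abbrev secFun (X : TopCat.{u}) (V : Opens X) : CohTop.Ab X ⥤ AddCommGrpCat.{u} :=
  sheafToPresheaf (Opens.grothendieckTopology X) AddCommGrpCat.{u} ⋙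
    (evaluation (Opens X)ᵒᵖ AddCommGrpCat.{u}).obj (op V)

/-- Derived functors of global sections are cohomology. -/
theorem nonempty_rightDerived_secFun_iso {X : TopCat.{u}} (F : CohTop.Ab X) (n : ℕ) :
    Nonempty (((secFun X ⊤).rightDerived n).obj F ≅ AddCommGrpCat.of (CohTop.H F n)) :=
  ⟨(SiteBase.rightDerivedCompIso (sheafToPresheaf (Opens.grothendieckTopology X) AddCommGrpCat.{u}) _ n).app F ≪≫
    ((evaluation (Opens X)ᵒᵖ AddCommGrpCat.{u}).obj (op ⊤)).mapIso
      ((SiteBase.rightDerivedIsoCohomology n).app F) ≪≫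
    (SiteBase.huTerminalEquiv isTerminalTop F n).toAddCommGrpIso⟩

variable {X : TopCat.{u}} {ι : Type u}

/-- Sections of a product of sheaves. -/
theorem sections_pi_bijective (P : ι → CohTop.Ab X) (V : Opens X) :
    Function.Bijective (fun (s : (∏ᶜ P).obj.obj (op V)) (σ : ι) => ((Pi.π P σ).hom.app (op V)).hom s) := by
  have h : IsLimit (Fan.mk ((secFun X V).obj (∏ᶜ P)) fun σ => (secFun X V).map (Pi.π P σ)) :=
    isLimitFanMkObjOfIsLimit (secFun X V) _ _ (productIsProduct P)
  constructor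
  · intro a b hab
    have e : (AddCommGrpCat.ofHom ((zmultiplesHom _ a).comp AddEquiv.ulift.toAddMonoidHom) :
        AddCommGrpCat.of (ULift.{u} ℤ) ⟶ (secFun X V).obj (∏ᶜ P)) =
        AddCommGrpCat.ofHom ((zmultiplesHom _ b).comp AddEquiv.ulift.toAddMonoidHom) := by
      refine Fan.IsLimit.hom_ext h _ _ fun σ => AddCommGrpCat.hom_ext (AddMonoidHom.ext fun m => ?_)
      show ((Pi.π P σ).hom.app (op V)).hom (m.down • a) = ((Pi.π P σ).hom.app (op V)).hom (m.down • b)
      rw [map_zsmul, map_zsmul]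
      exact congrArg (m.down • ·) (congrFun hab σ)
    have e1 := ConcreteCategory.congr_hom e (ULift.up 1)
    change (1 : ℤ) • a = (1 : ℤ) • b at e1
    rwa [one_zsmul, one_zsmul] at e1
  · intro s
    let c : Fan fun σ => (secFun X V).obj (P σ) :=
      Fan.mk (AddCommGrpCat.of (ULift.{u} ℤ)) fun σ =>
        AddCommGrpCat.ofHom ((zmultiplesHom _ (s σ)).comp AddEquiv.ulift.toAddMonoidHom)
    refine ⟨(h.lift c).hom (ULift.up 1), funext fun σ => ?_⟩
    refine (ConcreteCategory.congr_hom (h.fac c ⟨σ⟩) (ULift.up 1)).trans ?_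
    exact one_zsmul _

variable {Z : ι → TopCat.{u}} (g : ∀ σ, Z σ ⟶ X) (hg : ∀ σ, Topology.IsClosedEmbedding (g σ))
  (hlf : LocallyFinite fun σ => Set.range (g σ))

lemma pushMap_comp (A B C : ∀ σ, CohTop.Ab (Z σ)) (a : ∀ σ, A σ ⟶ B σ) (b : ∀ σ, B σ ⟶ C σ)
    (h : ∀ σ, a σ ≫ b σ = 0) :
    Limits.Pi.map (fun σ => (CohTop.push (g σ)).map (a σ)) ≫ Limits.Pi.map (fun σ => (CohTop.push (g σ)).map (b σ)) = 0 :=
  Pi.hom_ext _ _ fun σ => by
    rw [Category.assoc, Pi.map_π, Pi.map_π_assoc, ← Functor.map_comp, h, Functor.map_zero, comp_zero, zero_comp]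

lemma pi_app (A B : ∀ σ, CohTop.Ab (Z σ)) (a : ∀ σ, A σ ⟶ B σ) (V : Opens X)
    (s : (∏ᶜ fun σ => (CohTop.push (g σ)).obj (A σ)).obj.obj (op V)) (σ : ι) :
    ((Pi.π (fun σ => (CohTop.push (g σ)).obj (B σ)) σ).hom.app (op V)).hom
        (((Limits.Pi.map fun σ => (CohTop.push (g σ)).map (a σ)).hom.app (op V)).hom s) =
      (((CohTop.push (g σ)).map (a σ)).hom.app (op V)).hom
        (((Pi.π (fun σ => (CohTop.push (g σ)).obj (A σ)) σ).hom.app (op V)).hom s) :=
  ConcreteCategory.congr_hom (congrArg (fun f => f.hom.app (op V))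
    (Pi.map_π (fun σ => (CohTop.push (g σ)).map (a σ)) σ)) s

include hg hlf in
/-- Exactness of products of closed direct images. -/
theorem exact_pi_push (A B C : ∀ σ, CohTop.Ab (Z σ)) (a : ∀ σ, A σ ⟶ B σ) (b : ∀ σ, B σ ⟶ C σ)
    (w : ∀ σ, a σ ≫ b σ = 0) (h : ∀ σ, (ShortComplex.mk _ _ (w σ)).Exact) :
    (ShortComplex.mk _ _ (pushMap_comp g A B C a b w)).Exact := by
  refine BigSiteLib.FppfDesc.exact_of_locally_boundary fun V s hs => ?_
  intro x hx
  have hN := hlf.iInter_compl_mem_nhds (fun σ => (hg σ).isClosed_range) x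
  have : Finite {σ // x ∈ Set.range (g σ)} := (hlf.point_finite x).to_subtype
  let sσ := fun σ => ((Pi.π (fun σ => (CohTop.push (g σ)).obj (B σ)) σ).hom.app (op V)).hom s
  have hsσ : ∀ σ, (((CohTop.push (g σ)).map (b σ)).hom.app (op V)).hom (sσ σ) = 0 := fun σ => by
    refine (pi_app g B C b V s σ).symm.trans ?_
    exact (congrArg _ hs).trans (map_zero _)
  have hex : ∀ σ, ((ShortComplex.mk _ _ (w σ)).map (CohTop.push (g σ))).Exact := fun σ =>
    haveI := ClosedEmb.preservesFiniteColimits_push (hg σ)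
    haveI : PreservesLimitsOfSize.{0, 0} (CohTop.push (g σ)) :=
      (TopCat.Sheaf.pullbackPushforwardAdjunction AddCommGrpCat.{u} (g σ)).rightAdjoint_preservesLimits
    (h σ).map (CohTop.push (g σ))
  choose W i hW hxW using fun σ : {σ // x ∈ Set.range (g σ)} =>
    (BigSiteLib.FppfDesc.locally_boundary (hex σ.1) (sσ σ.1) (hsσ σ.1)) x hx
  obtain ⟨O, hO, hOo, hxO⟩ := mem_nhds_iff.1 (Filter.inter_mem (Filter.inter_mem hN (V.2.mem_nhds hx))
    (Filter.iInter_mem.2 fun σ => (W σ).2.mem_nhds (hxW σ)))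
  let O' : Opens X := ⟨O, hOo⟩
  have hOV : O' ≤ V := fun y hy => (hO hy).1.2
  have loc : ∀ σ : ι, ∃ t, (((CohTop.push (g σ)).map (a σ)).hom.app (op O')).hom t =
      (((CohTop.push (g σ)).obj (B σ)).obj.map (homOfLE hOV).op).hom (sσ σ) := fun σ => by
    by_cases hσ : x ∈ Set.range (g σ)
    · obtain ⟨t, ht⟩ := hW ⟨σ, hσ⟩
      have hOW : O' ≤ W ⟨σ, hσ⟩ := fun y hy => Set.mem_iInter.1 (hO hy).2 ⟨σ, hσ⟩
      refine ⟨(((CohTop.push (g σ)).obj (A σ)).obj.map (homOfLE hOW).op).hom t, ?_⟩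
      refine (ConcreteCategory.congr_hom (((CohTop.push (g σ)).map (a σ)).hom.naturality (homOfLE hOW).op) t).trans ?_
      refine (congrArg (((CohTop.push (g σ)).obj (B σ)).obj.map (homOfLE hOW).op).hom ht).trans ?_
      exact (ConcreteCategory.congr_hom (((CohTop.push (g σ)).obj (B σ)).obj.map_comp (i ⟨σ, hσ⟩).op
        (homOfLE hOW).op) (sσ σ)).symm
    · have he : (Opens.map (g σ)).obj O' = ⊥ :=
        eq_bot_iff.2 fun z hz => absurd ⟨z, rfl⟩ (Set.mem_iInter₂.1 (hO hz).1.1 σ hσ)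
      have := AddCommGrpCat.subsingleton_of_isZero (TopCat.Sheaf.isTerminalOfEqEmpty (B σ) he).isZero
      exact ⟨0, this.elim _ _⟩
  choose t ht using loc
  obtain ⟨t', ht'⟩ := (sections_pi_bijective (fun σ => (CohTop.push (g σ)).obj (A σ)) O').2 t
  refine ⟨O', homOfLE hOV, ⟨t', ?_⟩, hxO⟩
  refine (sections_pi_bijective (fun σ => (CohTop.push (g σ)).obj (B σ)) O').1 (funext fun σ => ?_)
  refine (pi_app g A B a O' t' σ).trans ?_
  refine (congrArg (((CohTop.push (g σ)).map (a σ)).hom.app (op O')).hom (congrFun ht' σ)).trans ((ht σ).trans ?_)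
  exact (ConcreteCategory.congr_hom
    ((Pi.π (fun σ => (CohTop.push (g σ)).obj (B σ)) σ).hom.naturality (homOfLE hOV).op) s).symm

include hg hlf in
/-- Cohomology of the product. -/
theorem nonempty_H_pi_push (G : ∀ σ, CohTop.Ab (Z σ)) (q : ℕ) :
    Nonempty (((secFun X ⊤).rightDerived q).obj (∏ᶜ fun σ => (CohTop.push (g σ)).obj (G σ)) ≅
      AddCommGrpCat.of (∀ σ, CohTop.H (G σ) q)) := by
  let R := fun σ => injectiveResolution (G σ)
  let obj : ℕ → CohTop.Ab X := fun n => ∏ᶜ fun σ => (CohTop.push (g σ)).obj ((R σ).cocomplex.X n)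
  let d : ∀ n, obj n ⟶ obj (n + 1) := fun n =>
    Limits.Pi.map fun σ => (CohTop.push (g σ)).map ((R σ).cocomplex.d n (n + 1))
  let K : CochainComplex (CohTop.Ab X) ℕ := CochainComplex.of obj d (fun n =>
    pushMap_comp g _ _ _ _ _ fun σ => (R σ).cocomplex.d_comp_d _ _ _)
  have hKd : ∀ n, K.d n (n + 1) = d n := fun n => CochainComplex.of_d _ _ n
  have hK : ∀ p, IsZero (K.homology (p + 1)) := fun p => by
    rw [← HomologicalComplex.exactAt_iff_isZero_homology, K.exactAt_iff' p (p + 1) (p + 1 + 1) (by simp) (by simp)]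
    refine ShortComplex.exact_of_iso (ShortComplex.isoMk
      (S₁ := ShortComplex.mk _ _ (pushMap_comp g _ _ _ (fun σ => (R σ).cocomplex.d p (p + 1))
        (fun σ => (R σ).cocomplex.d (p + 1) (p + 1 + 1)) (fun σ => (R σ).cocomplex.d_comp_d _ _ _)))
      (S₂ := K.sc' p (p + 1) (p + 1 + 1)) (Iso.refl _) (Iso.refl _) (Iso.refl _)
      ((Category.id_comp _).trans ((hKd p).trans (Category.comp_id _).symm))
      ((Category.id_comp _).trans ((hKd (p + 1)).trans (Category.comp_id _).symm)))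
      (exact_pi_push g hg hlf _ _ _ _ _ (fun σ => (R σ).cocomplex.d_comp_d _ _ _) fun σ => ?_)
    exact ((R σ).cocomplex.exactAt_iff' p (p + 1) (p + 1 + 1) (by simp) (by simp)).1
      ((R σ).cocomplex_exactAt_succ p)
  have hA : CompareSit.Acyclic (secFun X ⊤) K := CompareSit.acyclic_of_injective _ _ fun i => by
    have : ∀ σ, Injective ((CohTop.push (g σ)).obj ((R σ).cocomplex.X i)) := fun σ =>
      SiteBase.injective_push (g σ) _ (hI := (R σ).injective i)
    exact inferInstanceAs (Injective (∏ᶜ fun σ => (CohTop.push (g σ)).obj ((R σ).cocomplex.X i)))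
  let u₀ : ∀ σ, G σ ⟶ (R σ).cocomplex.X 0 := fun σ =>
    ((CochainComplex.fromSingle₀Equiv (R σ).cocomplex (G σ)) (R σ).ι).1
  have hu₀ : ∀ σ, u₀ σ ≫ (R σ).cocomplex.d 0 1 = 0 := fun σ =>
    ((CochainComplex.fromSingle₀Equiv (R σ).cocomplex (G σ)) (R σ).ι).2
  have hm : ∀ σ, Mono (u₀ σ) := fun σ => inferInstanceAs (Mono ((R σ).ι.f 0))
  have hS : ∀ σ, (ShortComplex.mk _ _ (hu₀ σ)).Exact := fun σ => (R σ).exact₀
  have : Mono (Limits.Pi.map fun σ => (CohTop.push (g σ)).map (u₀ σ)) := by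
    have : ∀ σ, Mono ((CohTop.push (g σ)).map (u₀ σ)) := fun σ =>
      haveI := hm σ
      haveI : (CohTop.push (g σ)).PreservesMonomorphisms := Functor.preservesMonomorphisms_of_adjunction
        (TopCat.Sheaf.pullbackPushforwardAdjunction AddCommGrpCat.{u} (g σ))
      inferInstance
    exact Pi.map_mono _
  have hS' := exact_pi_push g hg hlf _ _ _ u₀ (fun σ => (R σ).cocomplex.d 0 1) hu₀ hS
  let S' : ShortComplex (CohTop.Ab X) := ShortComplex.mk _ _ (pushMap_comp g _ _ _ u₀
    (fun σ => (R σ).cocomplex.d 0 1) hu₀)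
  have hd01 : K.d 0 1 = S'.g := hKd 0
  let S'' : ShortComplex (CohTop.Ab X) := ShortComplex.mk (X₂ := K.X 0) (X₃ := K.X 1) S'.f (K.d 0 1)
    ((congrArg (S'.f ≫ ·) hd01).trans S'.zero)
  have hS'' : S''.Exact := ShortComplex.exact_of_iso (ShortComplex.isoMk (S₁ := S') (S₂ := S'')
    (Iso.refl _) (Iso.refl _) (Iso.refl _) ((Category.id_comp _).trans (Category.comp_id _).symm)
    ((Category.id_comp _).trans (hd01.trans (Category.comp_id _).symm))) hS'
  let e0 : K.homology 0 ≅ ∏ᶜ fun σ => (CohTop.push (g σ)).obj (G σ) :=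
    (asIso (K.homologyπ 0)).symm ≪≫ IsLimit.conePointUniqueUpToIso (K.cyclesIsKernel 0 1 (by simp))
      (haveI : Mono S''.f := ‹_›; hS''.fIsKernel)
  obtain ⟨e⟩ := CompareSit.nonempty_homology_iso hA (n := q) (fun p _ => hK p) q le_rfl
  let M : ι → CochainComplex AddCommGrpCat.{u} ℕ := fun σ =>
    CompareSit.mapC (secFun (Z σ) ⊤) (R σ).cocomplex
  let π : ∀ σ, CompareSit.mapC (secFun X ⊤) K ⟶ M σ := fun σ =>
    { f := fun n => ((Pi.π (fun σ => (CohTop.push (g σ)).obj ((R σ).cocomplex.X n)) σ).hom.app (op ⊤))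
      comm' := fun n m hnm => by
        obtain rfl : n + 1 = m := hnm
        refine Eq.trans ?_ (congrArg (fun f => ((secFun X ⊤).map f) ≫ _) (hKd n)).symm
        exact (congrArg (fun f => f.hom.app (op ⊤))
          (Pi.map_π (fun σ => (CohTop.push (g σ)).map ((R σ).cocomplex.d n (n + 1))) σ)).symm }
  have hb := bijective_homology_of_product _ M π (fun n => sections_pi_bijective _ ⊤) q
  let φ : (CompareSit.mapC (secFun X ⊤) K).homology q ≃+ ∀ σ, (M σ).homology q :=
    AddEquiv.ofBijective (AddMonoidHom.mk' (fun x σ => (HomologicalComplex.homologyMap (π σ) q).hom x)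
      fun a b => funext fun σ => map_add _ a b) hb
  let ψ : ∀ σ, (M σ).homology q ≃+ CohTop.H (G σ) q := fun σ =>
    ((show (M σ).homology q ≅ ((secFun (Z σ) ⊤).rightDerived q).obj (G σ) from
      ((R σ).isoRightDerivedObj (secFun (Z σ) ⊤) q).symm) ≪≫
      (nonempty_rightDerived_secFun_iso (G σ) q).some).addCommGroupIsoToAddEquiv
  exact ⟨((secFun X ⊤).rightDerived q).mapIso e0.symm ≪≫ e.symm ≪≫
    (φ.trans (AddEquiv.piCongrRight ψ)).toAddCommGrpIso⟩

end Groth.Agent.DescentSS
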