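import Groth.Agent.SiteBase.DescentSS.ClosedCx
import Groth.Agent.SiteBase.ClosedEmb

/-!
# Families of germs along a closed subset are the closed direct image
-/

set_option autoImplicit false
set_option linter.unusedSectionVars false
set_option backward.isDefEq.respectTransparency false

universe u

open CategoryTheory CategoryTheory.Limits Opposite TopologicalSpace

noncomputable section

namespace Groth.Agent.DescentSS.Germ

variable {X : TopCat.{u}} (Zs : Set X) (F : CohTop.Ab X)

/-- The inclusion. -/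
abbrev incZ : TopCat.of Zs ⟶ X := TopCat.ofHom ⟨((↑) : Zs → X), continuous_subtype_val⟩

variable {Zs} (hZ : IsClosed Zs)

/-- The unit. -/
abbrev unitP : F ⟶ (CohTop.push (incZ Zs)).obj ((CohTop.pull (incZ Zs)).obj F) :=
  (TopCat.Sheaf.pullbackPushforwardAdjunction AddCommGrpCat.{u} (incZ Zs)).unit.app F

include hZ in
lemma incZ_closed : Topology.IsClosedEmbedding (incZ Zs) := hZ.isClosedEmbedding_subtypeVal

lemma range_incZ : Set.range (incZ Zs) = Zs := Subtype.range_coe

include hZ in
lemma epi_unitP : Epi (unitP F (Zs := Zs)) := by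
  have h : (ShortComplex.mk (unitP F (Zs := Zs))
      (0 : _ ⟶ (CohTop.push (incZ Zs)).obj ((CohTop.pull (incZ Zs)).obj F)) comp_zero).Exact := by
    refine (TopCat.Sheaf.exact_iff_stalkFunctor_map_exact _).2 fun x => ?_
    refine (ShortComplex.exact_iff_epi _ (show (ClosedEmb.stalkF x).map 0 = 0 from Functor.map_zero _ _ _)).2 ?_
    by_cases hx : x ∈ Zs
    · have := ClosedEmb.isIso_stalk_unit (incZ_closed hZ).isInducing F ⟨x, hx⟩
      exact inferInstanceAs (Epi ((ClosedEmb.stalkF x).map (unitP F (Zs := Zs))))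
    · exact (ClosedEmb.isZero_stalk_push (incZ_closed hZ) _ x (by rwa [range_incZ])).epi _
  exact (ShortComplex.exact_iff_epi _ rfl).1 h

include hZ in
lemma epi_unit_single : Epi (unit (fun _ : PUnit.{u + 1} => Zs) F) := by
  have h : (ShortComplex.mk (unit (fun _ : PUnit.{u + 1} => Zs) F)
      (0 : _ ⟶ sh (fun _ : PUnit.{u + 1} => Zs) F) comp_zero).Exact := by
    refine BigSiteLib.FppfDesc.exact_of_locally_boundary fun V s _ => ?_
    intro x hx
    by_cases hz : x ∈ Zs
    · obtain ⟨W, hW, hxW, t, ht⟩ := exists_rep (fun _ : PUnit.{u + 1} => Zs) F s PUnit.unit x hx hz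
      exact ⟨W, homOfLE hW, ⟨t, sh_ext _ F fun _ y hy hy' => (ht y hy hy').symm⟩, hxW⟩
    · exact ⟨V ⊓ ⟨Zsᶜ, hZ.isOpen_compl⟩, homOfLE inf_le_left,
        ⟨0, sh_ext _ F fun _ y hy hy' => absurd hy' hy.2⟩, hx, hz⟩
  exact (ShortComplex.exact_iff_epi _ rfl).1 h

include hZ in
lemma germs_eq_zero_of_unit {V : Opens X} (t : F.obj.obj (op V))
    (h : ∀ x (hx : x ∈ V), x ∈ Zs → gm F x hx t = 0) : ((unitP F (Zs := Zs)).hom.app (op V)).hom t = 0 := by
  refine TopCat.Presheaf.section_ext (C := AddCommGrpCat.{u})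
    ((CohTop.push (incZ Zs)).obj ((CohTop.pull (incZ Zs)).obj F)) V _ 0 fun x hx => ?_
  refine Eq.trans ?_ (map_zero (TopCat.Presheaf.germ (C := AddCommGrpCat.{u}) (X := X)
    ((CohTop.push (incZ Zs)).obj ((CohTop.pull (incZ Zs)).obj F)).obj V x hx).hom).symm
  by_cases hz : x ∈ Zs
  · refine (TopCat.Presheaf.stalkFunctor_map_germ_apply (C := AddCommGrpCat.{u}) V x hx (unitP F (Zs := Zs)).hom t).symm.trans ?_
    exact (congrArg ((TopCat.Presheaf.stalkFunctor AddCommGrpCat.{u} x).map (unitP F (Zs := Zs)).hom).hom (h x hx hz)).trans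
      (map_zero _)
  · have := AddCommGrpCat.subsingleton_of_isZero
      (ClosedEmb.isZero_stalk_push (incZ_closed hZ) ((CohTop.pull (incZ Zs)).obj F) x (by rwa [range_incZ]))
    exact this.elim _ _

include hZ in
lemma germs_zero_of_unit_zero {V : Opens X} (t : F.obj.obj (op V))
    (h : ((unitP F (Zs := Zs)).hom.app (op V)).hom t = 0) (x : X) (hx : x ∈ V) (hz : x ∈ Zs) : gm F x hx t = 0 := by
  have := ClosedEmb.isIso_stalk_unit (incZ_closed hZ).isInducing F ⟨x, hz⟩
  have hinj : Function.Injective ((ClosedEmb.stalkF x).map (unitP F (Zs := Zs))).hom :=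
    (AddCommGrpCat.mono_iff_injective _).1 (inferInstanceAs (Mono ((ClosedEmb.stalkF x).map (unitP F (Zs := Zs)))))
  refine hinj (Eq.trans ?_ (map_zero _).symm)
  refine (TopCat.Presheaf.stalkFunctor_map_germ_apply (C := AddCommGrpCat.{u}) V x hx (unitP F (Zs := Zs)).hom t).trans ?_
  exact (congrArg _ h).trans (map_zero _)

include hZ in
/-- Families of germs along a closed subset. -/
theorem nonempty_sh_single_iso :
    Nonempty (sh (fun _ : PUnit.{u + 1} => Zs) F ≅ (CohTop.push (incZ Zs)).obj ((CohTop.pull (incZ Zs)).obj F)) := by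
  let q := unit (fun _ : PUnit.{u + 1} => Zs) F
  let η := unitP F (Zs := Zs)
  have := epi_unit_single F hZ
  have := epi_unitP F hZ
  have h1 : kernel.ι q ≫ η = 0 := by
    refine CategoryTheory.Sheaf.hom_ext (NatTrans.ext (funext fun V => AddCommGrpCat.hom_ext (AddMonoidHom.ext fun c => ?_)))
    refine germs_eq_zero_of_unit F hZ (V := V.unop) (((kernel.ι q).hom.app V).hom c) fun x hx hz => ?_
    exact congrArg (val (fun _ : PUnit.{u + 1} => Zs) F PUnit.unit x hx hz)
      (congrArg (fun f => (f.hom.app V).hom c) (kernel.condition q))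
  have h2 : kernel.ι η ≫ q = 0 := by
    refine CategoryTheory.Sheaf.hom_ext (NatTrans.ext (funext fun V => AddCommGrpCat.hom_ext (AddMonoidHom.ext fun c =>
      sh_ext (fun _ : PUnit.{u + 1} => Zs) F fun _ x hx hz => ?_)))
    exact germs_zero_of_unit_zero F hZ (V := V.unop) (((kernel.ι η).hom.app V).hom c)
      (congrArg (fun f => (f.hom.app V).hom c) (kernel.condition η)) x hx hz
  let kq := Abelian.epiIsCokernelOfKernel (f := q) _ (kernelIsKernel q)
  let kη := Abelian.epiIsCokernelOfKernel (f := η) _ (kernelIsKernel η)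
  obtain ⟨a, ha⟩ := CokernelCofork.IsColimit.desc' kq η h1
  obtain ⟨b, hb⟩ := CokernelCofork.IsColimit.desc' kη q h2
  have ha' : q ≫ a = η := ha
  have hb' : η ≫ b = q := hb
  exact ⟨⟨a, b, (cancel_epi q).1 (((Category.assoc _ _ _).symm.trans ((congrArg (· ≫ b) ha').trans hb')).trans
      (Category.comp_id _).symm),
    (cancel_epi η).1 (((Category.assoc _ _ _).symm.trans ((congrArg (· ≫ a) hb').trans ha')).trans
      (Category.comp_id _).symm)⟩⟩

end Groth.Agent.DescentSS.Germ
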