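import Groth.Agent.SiteBase.DescentSS.GermFam
import Groth.Agent.BigSiteLib.FppfDesc.LocExact
import Mathlib.AlgebraicTopology.AlternatingFaceMapComplex
import Mathlib.Topology.Sheaves.Abelian
import Mathlib.CategoryTheory.Sites.Spaces
import Mathlib.Data.Fintype.Pi

/-!
# The resolution of a sheaf by a closed locally finite covering
-/

set_option autoImplicit false
set_option linter.unusedSectionVars false
set_option backward.isDefEq.respectTransparency false

universe u

open CategoryTheory CategoryTheory.Limits Opposite TopologicalSpace AlgebraicTopology Simplicial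

noncomputable section

namespace Groth.Agent.DescentSS.Germ

variable {X : TopCat.{u}} {I : Type u} (U : I → Set X) (F : CohTop.Ab X)

/-- The intersection over a tuple. -/
abbrev inter (n : ℕ) (σ : Fin (n + 1) → I) : Set X := ⋂ k, U (σ k)

lemma inter_subset {n m : ℕ} (σ : Fin (n + 1) → I) (θ : Fin (m + 1) → Fin (n + 1)) :
    inter U n σ ⊆ inter U m (σ ∘ θ) :=
  Set.subset_iInter fun k => Set.iInter_subset _ (θ k)

/-- The cosimplicial sheaf of the covering. -/
def cosimp : CosimplicialObject (CohTop.Ab X) where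
  obj n := sh (inter U n.len) F
  map {n m} θ := reindex (inter U n.len) F (inter U m.len) (fun σ => σ ∘ θ.toOrderHom)
    (fun σ => inter_subset U σ θ.toOrderHom)
  map_id _ := rfl
  map_comp _ _ := rfl

/-- The complex of the covering. -/
def cxU : CochainComplex (CohTop.Ab X) ℕ :=
  (alternatingCofaceMapComplex (CohTop.Ab X)).obj (cosimp U F)

lemma inter_succAbove {p : ℕ} (σ : Fin (p + 2) → I) (i : Fin (p + 2)) :
    inter U (p + 1) σ ⊆ inter U p (σ ∘ i.succAbove) :=
  inter_subset U σ i.succAbove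

/-- The differential on germs. -/
lemma val_cxU_d (p : ℕ) {V : Opens X} (s : (sh (inter U p) F).obj.obj (op V)) (σ : Fin (p + 2) → I)
    (x : X) (hx : x ∈ V) (hz : x ∈ inter U (p + 1) σ) :
    val (inter U (p + 1)) F σ x hx hz ((((cxU U F).d p (p + 1)).hom.app (op V)).hom s) =
      ∑ i : Fin (p + 2), (-1 : ℤ) ^ (i : ℕ) •
        val (inter U p) F (σ ∘ i.succAbove) x hx (inter_succAbove U σ i hz) s := by
  let ev : (sh (inter U p) F ⟶ sh (inter U (p + 1)) F) →+ CohTop.stalk F x :=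
    AddMonoidHom.mk' (fun f => val (inter U (p + 1)) F σ x hx hz ((f.hom.app (op V)).hom s)) (fun _ _ => rfl)
  have hd : (cxU U F).d p (p + 1) = ∑ i : Fin (p + 2), (-1 : ℤ) ^ (i : ℕ) • (cosimp U F).δ i :=
    CochainComplex.of_d (fun n : ℕ => (cosimp U F).obj ⦋n⦌)
      (fun n => ∑ i : Fin (n + 2), (-1 : ℤ) ^ (i : ℕ) • (cosimp U F).δ i) p
  refine (congrArg (fun f => ev f) hd).trans ((map_sum ev _ _).trans (Finset.sum_congr rfl fun i _ => ?_))
  exact (map_zsmul ev ((-1 : ℤ) ^ (i : ℕ)) _).trans rfl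

variable {U} (hU : ∀ i, IsClosed (U i)) (hlf : LocallyFinite U) (hcov : ⋃ i, U i = Set.univ)

include hU hlf in
lemma exists_nhds_inter (x : X) : ∃ N ∈ nhds x, ∀ (n : ℕ) (σ : Fin (n + 1) → I) y,
    y ∈ N → y ∈ inter U n σ → x ∈ inter U n σ := by
  refine ⟨_, hlf.iInter_compl_mem_nhds hU x, fun n σ y hy hz => Set.mem_iInter.2 fun k => ?_⟩
  by_contra hk
  exact Set.mem_iInter₂.1 hy (σ k) hk (Set.mem_iInter.1 hz k)

include hlf in
lemma finite_inter (x : X) (n : ℕ) : {σ : Fin (n + 1) → I | x ∈ inter U n σ}.Finite := by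
  refine Set.Finite.subset (Set.Finite.pi' fun _ => hlf.point_finite x) fun σ hσ k => ?_
  exact Set.mem_iInter.1 hσ k

lemma cons_succAbove_succ {p : ℕ} (i₀ : I) (σ : Fin (p + 2) → I) (j : Fin (p + 2)) :
    (Fin.cons i₀ σ : Fin (p + 3) → I) ∘ j.succ.succAbove =
      (Fin.cons i₀ (σ ∘ j.succAbove) : Fin (p + 2) → I) := by
  funext k
  refine Fin.cases ?_ (fun k => ?_) k
  · simp
  · simp [Fin.succ_succAbove_succ]

lemma cons_succAbove_zero {p : ℕ} (i₀ : I) (σ : Fin (p + 1) → I) :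
    (Fin.cons i₀ σ : Fin (p + 2) → I) ∘ (0 : Fin (p + 2)).succAbove = σ := by
  funext k
  simp

lemma mem_inter_cons {p : ℕ} {x : X} {i₀ : I} (hi : x ∈ U i₀) {σ : Fin (p + 1) → I}
    (hσ : x ∈ inter U p σ) : x ∈ inter U (p + 1) (Fin.cons i₀ σ) :=
  Set.mem_iInter.2 fun k => Fin.cases (by simpa using hi)
    (fun k => by simpa using Set.mem_iInter.1 hσ k) k

lemma val_congr {n : ℕ} {V : Opens X} (s : (sh (inter U n) F).obj.obj (op V)) {σ τ : Fin (n + 1) → I}
    (h : σ = τ) (x : X) (hx : x ∈ V) (hz : x ∈ inter U n σ) :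
    val (inter U n) F σ x hx hz s = val (inter U n) F τ x hx (h ▸ hz) s := by
  subst h; rfl

include hU hlf hcov in
/-- Cycles are locally boundaries. -/
theorem exists_boundary (p : ℕ) {V : Opens X} (s : (sh (inter U (p + 1)) F).obj.obj (op V))
    (hs : ((((cxU U F).d (p + 1) (p + 1 + 1)).hom.app (op V)).hom s) = 0) (x : X) (hx : x ∈ V) :
    ∃ (W : Opens X) (hW : W ≤ V) (_ : x ∈ W) (t : (sh (inter U p) F).obj.obj (op W)),
      (((cxU U F).d p (p + 1)).hom.app (op W)).hom t =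
        ((sh (inter U (p + 1)) F).obj.map (homOfLE hW).op).hom s := by
  obtain ⟨i₀, hi₀⟩ : ∃ i, x ∈ U i := Set.mem_iUnion.1 (hcov ▸ Set.mem_univ x)
  obtain ⟨N, hN, hNZ⟩ := exists_nhds_inter hU hlf x
  let T := {τ : Fin (p + 1) → I // x ∈ inter U p τ}
  have : Finite T := (finite_inter hlf x p).to_subtype
  choose Wt hWt hxWt t ht using fun τ : T =>
    exists_rep (inter U (p + 1)) F s (Fin.cons i₀ τ.1) x hx (mem_inter_cons hi₀ τ.2)
  have hmem : (N ∩ (V : Set X)) ∩ ⋂ τ : T, (Wt τ : Set X) ∈ nhds x :=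
    Filter.inter_mem (Filter.inter_mem hN (V.2.mem_nhds hx))
      (Filter.iInter_mem.2 fun τ => (Wt τ).2.mem_nhds (hxWt τ))
  obtain ⟨O, hO, hOo, hxO⟩ := mem_nhds_iff.1 hmem
  let W₁ : Opens X := ⟨O, hOo⟩
  have hW₁ : W₁ ≤ V := fun y hy => (hO hy).1.2
  have hle : ∀ τ : T, W₁ ≤ Wt τ := fun τ y hy => Set.mem_iInter.1 (hO hy).2 τ
  let hom : (sh (inter U p) F).obj.obj (op W₁) := mk (inter U p) F
    (fun τ y => gm F y.1 (hle ⟨τ, hNZ p τ y.1 (hO y.2.1).1.1 y.2.2⟩ y.2.1)
      (t ⟨τ, hNZ p τ y.1 (hO y.2.1).1.1 y.2.2⟩))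
    (fun τ y hy hz => ⟨W₁, le_rfl, hy,
      (F.obj.map (homOfLE (hle ⟨τ, hNZ p τ y (hO hy).1.1 hz⟩)).op).hom (t ⟨τ, hNZ p τ y (hO hy).1.1 hz⟩),
      fun y' hy' hz' => (gm_res F (hle ⟨τ, hNZ p τ y (hO hy).1.1 hz⟩) y' hy' _).symm⟩)
  have key : ∀ σ hz, val (inter U (p + 1)) F σ x hxO hz ((((cxU U F).d p (p + 1)).hom.app (op W₁)).hom hom) =
      val (inter U (p + 1)) F σ x hxO hz (((sh (inter U (p + 1)) F).obj.map (homOfLE hW₁).op).hom s) := fun σ hz => by
    refine (val_cxU_d U F p hom σ x hxO hz).trans ?_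
    rw [val_res]
    have h0 := congrArg (val (inter U (p + 1 + 1)) F (Fin.cons i₀ σ) x hx (mem_inter_cons hi₀ hz)) hs
    rw [val_cxU_d, map_zero, Fin.sum_univ_succ] at h0
    have e0 : val (inter U (p + 1)) F ((Fin.cons i₀ σ : Fin (p + 3) → I) ∘ (0 : Fin (p + 3)).succAbove) x hx
        (inter_succAbove U (Fin.cons i₀ σ) 0 (mem_inter_cons hi₀ hz)) s = val (inter U (p + 1)) F σ x hx hz s :=
      val_congr F s (cons_succAbove_zero i₀ σ) x hx _
    have e1 : ∀ j : Fin (p + 2),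
        val (inter U p) F (σ ∘ j.succAbove) x hxO (inter_succAbove U σ j hz) hom =
          val (inter U (p + 1)) F ((Fin.cons i₀ σ : Fin (p + 3) → I) ∘ j.succ.succAbove) x hx
            (inter_succAbove U (Fin.cons i₀ σ) j.succ (mem_inter_cons hi₀ hz)) s := fun j => by
      refine Eq.trans ?_ (val_congr F s (cons_succAbove_succ i₀ σ j) x hx _).symm
      exact (ht ⟨σ ∘ j.succAbove, inter_succAbove U σ j hz⟩ x (hxWt _)
        (mem_inter_cons hi₀ (inter_succAbove U σ j hz))).symm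
    simp only [Fin.val_zero, pow_zero, one_smul, Fin.val_succ, pow_succ, mul_neg, mul_one, neg_smul,
      Finset.sum_neg_distrib] at h0
    rw [e0, add_neg_eq_zero] at h0
    rw [h0]
    exact Finset.sum_congr rfl fun j _ => congrArg _ (e1 j)
  obtain ⟨W, hW, hxW, e⟩ := exists_res_eq x N hN (hNZ (p + 1)) (finite_inter hlf x (p + 1)) (V := W₁) hxO
    ((((cxU U F).d p (p + 1)).hom.app (op W₁)).hom hom)
    (((sh (inter U (p + 1)) F).obj.map (homOfLE hW₁).op).hom s) key
  refine ⟨W, hW.trans hW₁, hxW, ((sh (inter U p) F).obj.map (homOfLE hW).op).hom hom, ?_⟩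
  refine (ConcreteCategory.congr_hom (((cxU U F).d p (p + 1)).hom.naturality (homOfLE hW).op) hom).trans ?_
  exact e.trans (ConcreteCategory.congr_hom ((sh (inter U (p + 1)) F).obj.map_comp (homOfLE hW₁).op
      (homOfLE hW).op).symm s)

include hU hlf hcov in
theorem exactAt_cxU (p : ℕ) : (cxU U F).ExactAt (p + 1) := by
  rw [(cxU U F).exactAt_iff' p (p + 1) (p + 1 + 1) (by simp) (by simp)]
  refine BigSiteLib.FppfDesc.exact_of_locally_boundary fun V s hs => ?_
  intro x hx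
  obtain ⟨W, hW, hxW, t, ht⟩ := exists_boundary F hU hlf hcov p s hs x hx
  exact ⟨W, homOfLE hW, ⟨t, ht⟩, hxW⟩

lemma unit_d : unit (inter U 0) F ≫ (cxU U F).d 0 1 = 0 := by
  refine CategoryTheory.Sheaf.hom_ext (NatTrans.ext (funext fun V => AddCommGrpCat.hom_ext
    (AddMonoidHom.ext fun t => sh_ext (inter U 1) F fun σ x hx hz => ?_)))
  refine (val_cxU_d U F 0 (((unit (inter U 0) F).hom.app V).hom t) σ x hx hz).trans ?_
  rw [Fin.sum_univ_two, val_unit, val_unit]
  simp

include hU hlf hcov in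
theorem nonempty_homology_zero : Nonempty ((cxU U F).homology 0 ≅ F) := by
  have hm : Mono (unit (inter U 0) F) := by
    have : Mono (unit (inter U 0) F).hom := by
      have : ∀ V, Mono ((unit (inter U 0) F).hom.app V) := fun V => by
        rw [AddCommGrpCat.mono_iff_injective]
        intro a b hab
        refine TopCat.Presheaf.section_ext (C := AddCommGrpCat.{u}) F V.unop a b fun x hx => ?_
        obtain ⟨i₀, hi₀⟩ : ∃ i, x ∈ U i := Set.mem_iUnion.1 (hcov ▸ Set.mem_univ x)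
        have hz : x ∈ inter U 0 (fun _ => i₀) := Set.mem_iInter.2 fun _ => hi₀
        exact congrArg (val (inter U 0) F (fun _ => i₀) x hx hz) hab
      exact NatTrans.mono_of_mono_app _
    exact (sheafToPresheaf _ _).mono_of_mono_map this
  let S := ShortComplex.mk (unit (inter U 0) F) ((cxU U F).d 0 1) (unit_d F)
  have hS : S.Exact := BigSiteLib.FppfDesc.exact_of_locally_boundary fun V s hs => by
    intro x hx
    obtain ⟨i₀, hi₀⟩ : ∃ i, x ∈ U i := Set.mem_iUnion.1 (hcov ▸ Set.mem_univ x)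
    obtain ⟨N, hN, hNZ⟩ := exists_nhds_inter hU hlf x
    have hz₀ : x ∈ inter U 0 (fun _ => i₀) := Set.mem_iInter.2 fun _ => hi₀
    obtain ⟨W₀, hW₀, hxW₀, t, ht⟩ := exists_rep (inter U 0) F s (fun _ => i₀) x hx hz₀
    obtain ⟨W, hW, hxW, e⟩ := exists_res_eq x N hN (hNZ 0) (finite_inter hlf x 0) (V := W₀) hxW₀
      (((unit (inter U 0) F).hom.app (op W₀)).hom t)
      (((sh (inter U 0) F).obj.map (homOfLE hW₀).op).hom s) (fun σ hz => by
        rw [val_unit, val_res, ← ht x hxW₀ hz₀]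
        have h0 := congrArg (val (inter U 1) F (Fin.cons i₀ σ) x hx (mem_inter_cons hi₀ hz)) hs
        change val (inter U 1) F _ x hx _ ((((cxU U F).d 0 (0 + 1)).hom.app (op V)).hom s) = _ at h0
        rw [val_cxU_d, map_zero, Fin.sum_univ_two] at h0
        have ea : (Fin.cons i₀ σ : Fin 2 → I) ∘ (0 : Fin 2).succAbove = σ := cons_succAbove_zero i₀ σ
        have eb : (Fin.cons i₀ σ : Fin 2 → I) ∘ (1 : Fin 2).succAbove = fun _ => i₀ := by
          funext k; fin_cases k; rfl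
        rw [val_congr F s ea x hx _, val_congr F s eb x hx _] at h0
        simp only [Fin.val_zero, pow_zero, one_smul, Fin.val_one, pow_one, neg_smul, add_neg_eq_zero] at h0
        exact h0.symm)
    refine ⟨W, homOfLE (hW.trans hW₀), ⟨(F.obj.map (homOfLE hW).op).hom t, ?_⟩, hxW⟩
    refine (ConcreteCategory.congr_hom ((unit (inter U 0) F).hom.naturality (homOfLE hW).op) t).trans ?_
    exact e.trans (ConcreteCategory.congr_hom ((sh (inter U 0) F).obj.map_comp (homOfLE hW₀).op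
      (homOfLE hW).op).symm s)
  exact ⟨(asIso ((cxU U F).homologyπ 0)).symm ≪≫
    IsLimit.conePointUniqueUpToIso ((cxU U F).cyclesIsKernel 0 1 (by simp)) (haveI : Mono S.f := hm; hS.fIsKernel)⟩

end Groth.Agent.DescentSS.Germ
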