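import Groth.Prelude.Def_CohTop
import Mathlib.Topology.Sheaves.SheafCondition.UniqueGluing
import Mathlib.Topology.Sheaves.Stalks
import Mathlib.Topology.LocallyFinite
import Mathlib.Algebra.Category.Grp.FilteredColimits
import Mathlib.Algebra.Category.Grp.Limits

/-!
# Families of germs along a family of subsets
-/

set_option autoImplicit false
set_option linter.unusedSectionVars false
set_option backward.isDefEq.respectTransparency false

universe u

open CategoryTheory CategoryTheory.Limits Opposite TopologicalSpace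

noncomputable section

namespace Groth.Agent.DescentSS.Germ

variable {X : TopCat.{u}} {J : Type u} (Z : J → Set X) (F : CohTop.Ab X)

/-- Families of germs. -/
abbrev Fam (V : Opens X) : Type u := ∀ σ : J, ∀ x : {x : X // x ∈ V ∧ x ∈ Z σ}, CohTop.stalk F x.1

/-- Germ of a section. -/
abbrev gm {W : Opens X} (x : X) (hx : x ∈ W) (t : F.obj.obj (op W)) : CohTop.stalk F x :=
  (TopCat.Presheaf.germ (C := AddCommGrpCat.{u}) (X := X) F.obj W x hx).hom t

lemma gm_res {W W' : Opens X} (h : W' ≤ W) (x : X) (hx : x ∈ W') (t : F.obj.obj (op W)) :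
    gm F x hx ((F.obj.map (homOfLE h).op).hom t) = gm F x (h hx) t :=
  TopCat.Presheaf.germ_res_apply (C := AddCommGrpCat.{u}) (X := X) F.obj (homOfLE h) x hx t

/-- The family consists of germs of sections locally. -/
def IsLocal {V : Opens X} (s : Fam Z F V) : Prop :=
  ∀ σ x, x ∈ V → x ∈ Z σ → ∃ (W : Opens X) (hW : W ≤ V) (_ : x ∈ W) (t : F.obj.obj (op W)),
    ∀ y (hy : y ∈ W) (hz : y ∈ Z σ), s σ ⟨y, hW hy, hz⟩ = gm F y hy t

/-- The group of local families. -/
def fams (V : Opens X) : AddSubgroup (Fam Z F V) where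
  carrier := {s | IsLocal Z F s}
  zero_mem' := fun σ x hx hz => ⟨V, le_rfl, hx, 0, fun y hy hz' => (map_zero (TopCat.Presheaf.germ (C := AddCommGrpCat.{u}) (X := X) F.obj V y hy).hom).symm⟩
  add_mem' := fun {a b} ha hb σ x hx hz => by
    obtain ⟨W, hW, hxW, t, ht⟩ := ha σ x hx hz
    obtain ⟨W', hW', hxW', t', ht'⟩ := hb σ x hx hz
    refine ⟨W ⊓ W', inf_le_left.trans hW, ⟨hxW, hxW'⟩,
      (F.obj.map (homOfLE inf_le_left).op).hom t + (F.obj.map (homOfLE inf_le_right).op).hom t', fun y hy hz' => ?_⟩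
    show a σ ⟨y, hW (hy.1), hz'⟩ + b σ ⟨y, hW' hy.2, hz'⟩ = _
    refine Eq.trans ?_ (map_add (TopCat.Presheaf.germ (C := AddCommGrpCat.{u}) (X := X) F.obj (W ⊓ W') y hy).hom _ _).symm
    exact congrArg₂ (· + ·) ((ht y hy.1 hz').trans (gm_res F inf_le_left y hy t).symm)
      ((ht' y hy.2 hz').trans (gm_res F inf_le_right y hy t').symm)
  neg_mem' := fun {a} ha σ x hx hz => by
    obtain ⟨W, hW, hxW, t, ht⟩ := ha σ x hx hz
    exact ⟨W, hW, hxW, -t, fun y hy hz' =>
      (congrArg (- ·) (ht y hy hz')).trans (map_neg (TopCat.Presheaf.germ (C := AddCommGrpCat.{u}) (X := X) F.obj W y hy).hom t).symm⟩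

lemma fams_ext {V : Opens X} {a b : fams Z F V} (h : ∀ σ x hx hz, a.1 σ ⟨x, hx, hz⟩ = b.1 σ ⟨x, hx, hz⟩) : a = b :=
  Subtype.ext (funext fun σ => funext fun ⟨x, hx, hz⟩ => h σ x hx hz)

/-- Restriction of families. -/
def resFam {V V' : Opens X} (h : V' ≤ V) : fams Z F V →+ fams Z F V' where
  toFun a := ⟨fun σ x => a.1 σ ⟨x.1, h x.2.1, x.2.2⟩, fun σ x hx hz => by
    obtain ⟨W, hW, hxW, t, ht⟩ := a.2 σ x (h hx) hz
    exact ⟨W ⊓ V', inf_le_right, ⟨hxW, hx⟩, (F.obj.map (homOfLE inf_le_left).op).hom t,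
      fun y hy hz' => (ht y hy.1 hz').trans (gm_res F inf_le_left y hy t).symm⟩⟩
  map_zero' := rfl
  map_add' _ _ := rfl

lemma resFam_apply {V V' : Opens X} (h : V' ≤ V) (a : fams Z F V) (σ : J) (x : X) (hx : x ∈ V')
    (hz : x ∈ Z σ) : (resFam Z F h a).1 σ ⟨x, hx, hz⟩ = a.1 σ ⟨x, h hx, hz⟩ := rfl

/-- The presheaf of local families. -/
def pre : (Opens X)ᵒᵖ ⥤ AddCommGrpCat.{u} where
  obj V := AddCommGrpCat.of (fams Z F V.unop)
  map f := AddCommGrpCat.ofHom (resFam Z F f.unop.le)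
  map_id _ := rfl
  map_comp _ _ := rfl

lemma isSheaf_pre : TopCat.Presheaf.IsSheaf (pre Z F) := by
  refine (TopCat.Presheaf.isSheaf_iff_isSheafUniqueGluing (pre Z F)).2 ?_
  intro ι U sf hsf
  have hmem : ∀ x, x ∈ iSup U → ∃ i, x ∈ U i := fun x hx => Opens.mem_iSup.1 hx
  choose ix hix using hmem
  have compat : ∀ (i j : ι) σ x (hi : x ∈ U i) (hj : x ∈ U j) hz,
      (sf i).1 σ ⟨x, hi, hz⟩ = (sf j).1 σ ⟨x, hj, hz⟩ := fun i j σ x hi hj hz =>
    congrArg (fun t : fams Z F (U i ⊓ U j) => t.1 σ ⟨x, ⟨hi, hj⟩, hz⟩) (hsf i j)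
  let g : fams Z F (iSup U) := ⟨fun σ x => (sf (ix x.1 x.2.1)).1 σ ⟨x.1, hix x.1 x.2.1, x.2.2⟩, fun σ x hx hz => by
    obtain ⟨W, hW, hxW, t, ht⟩ := (sf (ix x hx)).2 σ x (hix x hx) hz
    exact ⟨W, hW.trans (le_iSup U _), hxW, t, fun y hy hz' =>
      (compat (ix y (le_iSup U _ (hW hy))) (ix x hx) σ y (hix y (le_iSup U _ (hW hy))) (hW hy) hz').trans (ht y hy hz')⟩⟩
  refine ⟨g, fun i => fams_ext Z F fun σ x hx hz => compat (ix x (le_iSup U i hx)) i σ x (hix x (le_iSup U i hx)) hx hz, fun g' hg' => ?_⟩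
  refine fams_ext Z F fun σ x hx hz => ?_
  exact congrArg (fun t : fams Z F (U (ix x hx)) => t.1 σ ⟨x, hix x hx, hz⟩) (hg' (ix x hx))

/-- The sheaf of local families. -/
def sh : CohTop.Ab X := ⟨pre Z F, isSheaf_pre Z F⟩

/-- The value of a section. -/
def val {V : Opens X} (σ : J) (x : X) (hx : x ∈ V) (hz : x ∈ Z σ) :
    (sh Z F).obj.obj (op V) →+ CohTop.stalk F x where
  toFun a := (show fams Z F V from a).1 σ ⟨x, hx, hz⟩
  map_zero' := rfl
  map_add' _ _ := rfl

lemma sh_ext {V : Opens X} {a b : (sh Z F).obj.obj (op V)}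
    (h : ∀ σ x hx hz, val Z F σ x hx hz a = val Z F σ x hx hz b) : a = b := fams_ext Z F h

lemma val_res {V V' : Opens X} (h : V' ≤ V) (a : (sh Z F).obj.obj (op V)) (σ : J) (x : X)
    (hx : x ∈ V') (hz : x ∈ Z σ) :
    val Z F σ x hx hz (((sh Z F).obj.map (homOfLE h).op).hom a) = val Z F σ x (h hx) hz a := rfl

lemma exists_rep {V : Opens X} (a : (sh Z F).obj.obj (op V)) (σ : J) (x : X) (hx : x ∈ V) (hz : x ∈ Z σ) :
    ∃ (W : Opens X) (hW : W ≤ V) (_ : x ∈ W) (t : F.obj.obj (op W)),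
      ∀ y (hy : y ∈ W) (hz : y ∈ Z σ), val Z F σ y (hW hy) hz a = gm F y hy t :=
  (show fams Z F V from a).2 σ x hx hz

/-- A section from a family. -/
def mk {V : Opens X} (s : Fam Z F V) (hs : IsLocal Z F s) : (sh Z F).obj.obj (op V) :=
  (⟨s, hs⟩ : fams Z F V)

lemma val_mk {V : Opens X} (s : Fam Z F V) (hs : IsLocal Z F s) (σ : J) (x : X) (hx : x ∈ V)
    (hz : x ∈ Z σ) : val Z F σ x hx hz (mk Z F s hs) = s σ ⟨x, hx, hz⟩ := rfl

/-- The family of germs of a section. -/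
def unit : F ⟶ sh Z F := ⟨{
  app := fun V => AddCommGrpCat.ofHom (AddMonoidHom.mk'
    (fun t => mk Z F (V := V.unop) (fun _ x => gm F x.1 x.2.1 t)
      (fun _ x hx _ => ⟨V.unop, le_rfl, hx, t, fun y hy _ => rfl⟩))
    (fun a b => sh_ext Z F fun σ x hx hz => map_add (TopCat.Presheaf.germ (C := AddCommGrpCat.{u}) (X := X) F.obj V.unop x hx).hom a b))
  naturality := fun V V' f => AddCommGrpCat.hom_ext (AddMonoidHom.ext fun t =>
    sh_ext Z F fun σ x hx hz => gm_res F f.unop.le x hx t) }⟩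

lemma val_unit {V : Opens X} (t : F.obj.obj (op V)) (σ : J) (x : X) (hx : x ∈ V) (hz : x ∈ Z σ) :
    val Z F σ x hx hz (((unit Z F).hom.app (op V)).hom t) = gm F x hx t := rfl

section Reindex

variable {J' : Type u} (Z' : J' → Set X) (f : J' → J) (hf : ∀ j, Z' j ⊆ Z (f j))

/-- Reindexing along a refinement. -/
def reindex : sh Z F ⟶ sh Z' F := ⟨{
  app := fun V => AddCommGrpCat.ofHom (AddMonoidHom.mk'
    (fun a => mk Z' F (V := V.unop) (fun j x => val Z F (f j) x.1 x.2.1 (hf j x.2.2) a)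
      (fun j x hx hz => by
        obtain ⟨W, hW, hxW, t, ht⟩ := exists_rep Z F a (f j) x hx (hf j hz)
        exact ⟨W, hW, hxW, t, fun y hy hz' => ht y hy (hf j hz')⟩))
    (fun a b => rfl))
  naturality := fun V V' k => rfl }⟩

lemma val_reindex {V : Opens X} (a : (sh Z F).obj.obj (op V)) (j : J') (x : X) (hx : x ∈ V) (hz : x ∈ Z' j) :
    val Z' F j x hx hz (((reindex Z F Z' f hf).hom.app (op V)).hom a) = val Z F (f j) x hx (hf j hz) a := rfl

lemma unit_reindex : unit Z F ≫ reindex Z F Z' f hf = unit Z' F := rfl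

end Reindex

section Prod

/-- The projection to a member. -/
abbrev proj (σ : J) : sh Z F ⟶ sh (fun _ : PUnit.{u + 1} => Z σ) F :=
  reindex Z F (fun _ : PUnit.{u + 1} => Z σ) (fun _ => σ) (fun _ => subset_rfl)

/-- Local families are a product. -/
def isLimitFan : IsLimit (Fan.mk (sh Z F) (proj Z F)) :=
  Fan.IsLimit.mk _
    (fun c => ⟨{
      app := fun V => AddCommGrpCat.ofHom (AddMonoidHom.mk'
        (fun a => mk Z F (V := V.unop)
          (fun σ x => val (fun _ : PUnit.{u + 1} => Z σ) F PUnit.unit x.1 x.2.1 x.2.2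
            (((c.proj σ).hom.app V).hom a))
          (fun σ x hx hz => exists_rep (fun _ : PUnit.{u + 1} => Z σ) F
            (((c.proj σ).hom.app V).hom a) PUnit.unit x hx hz))
        (fun a b => sh_ext Z F fun σ x hx hz => by
          show val (fun _ : PUnit.{u + 1} => Z σ) F PUnit.unit x hx hz _ = _
          rw [map_add, map_add]
          rfl))
      naturality := fun V V' k => AddCommGrpCat.hom_ext (AddMonoidHom.ext fun a =>
        sh_ext Z F fun σ x hx hz => congrArg (val (fun _ : PUnit.{u + 1} => Z σ) F PUnit.unit x hx hz)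
          (ConcreteCategory.congr_hom ((c.proj σ).hom.naturality k) a)) }⟩)
    (fun c σ => CategoryTheory.Sheaf.hom_ext (NatTrans.ext (funext fun V => AddCommGrpCat.hom_ext
      (AddMonoidHom.ext fun a => sh_ext _ F fun _ x hx hz => rfl))))
    (fun c m hm => CategoryTheory.Sheaf.hom_ext (NatTrans.ext (funext fun V => AddCommGrpCat.hom_ext
      (AddMonoidHom.ext fun a => sh_ext Z F fun σ x hx hz =>
        congrArg (val (fun _ : PUnit.{u + 1} => Z σ) F PUnit.unit x hx hz)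
          (congrArg (fun t => (t.hom.app V).hom a) (hm σ))))))

end Prod

section Local

variable {Z} {F}

/-- Families agreeing at a point agree nearby, under finiteness. -/
theorem exists_res_eq (x : X) (N : Set X) (hN : N ∈ nhds x) (hNZ : ∀ σ y, y ∈ N → y ∈ Z σ → x ∈ Z σ)
    (hfin : {σ | x ∈ Z σ}.Finite) {V : Opens X} (hx : x ∈ V) (a b : (sh Z F).obj.obj (op V))
    (h : ∀ σ hz, val Z F σ x hx hz a = val Z F σ x hx hz b) :
    ∃ (W : Opens X) (hW : W ≤ V), x ∈ W ∧
      ((sh Z F).obj.map (homOfLE hW).op).hom a = ((sh Z F).obj.map (homOfLE hW).op).hom b := by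
  have key : ∀ σ, x ∈ Z σ → {y | ∀ (hy : y ∈ V) (hz : y ∈ Z σ),
      val Z F σ y hy hz a = val Z F σ y hy hz b} ∈ nhds x := fun σ hz => by
    obtain ⟨W, hW, hxW, t, ht⟩ := exists_rep Z F a σ x hx hz
    obtain ⟨W', hW', hxW', t', ht'⟩ := exists_rep Z F b σ x hx hz
    have e : gm F x hxW t = gm F x hxW' t' := (ht x hxW hz).symm.trans ((h σ hz).trans (ht' x hxW' hz))
    obtain ⟨M, hxM, i, i', hM⟩ := TopCat.Presheaf.germ_eq (C := AddCommGrpCat.{u}) (X := X) F.obj x hxW hxW' t t' e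
    refine Filter.mem_of_superset (M.2.mem_nhds hxM) fun y hy hyV hyz => ?_
    refine (ht y (i.le hy) hyz).trans (Eq.trans ?_ (ht' y (i'.le hy) hyz).symm)
    exact (TopCat.Presheaf.germ_res_apply (C := AddCommGrpCat.{u}) (X := X) F.obj i y hy t).symm.trans
      ((congrArg (gm F y hy) hM).trans (TopCat.Presheaf.germ_res_apply (C := AddCommGrpCat.{u}) (X := X) F.obj i' y hy t'))
  obtain ⟨O, hO, hOopen, hxO⟩ := mem_nhds_iff.1
    (Filter.inter_mem hN ((Filter.biInter_mem hfin).2 key))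
  refine ⟨⟨O, hOopen⟩ ⊓ V, inf_le_right, ⟨hxO, hx⟩, sh_ext Z F fun σ y hy hz => ?_⟩
  exact Set.mem_iInter₂.1 (hO hy.1).2 σ (hNZ σ y (hO hy.1).1 hz) hy.2 hz

end Local

end Groth.Agent.DescentSS.Germ
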