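import Groth.Prelude.Def_SpSeq
import Mathlib.Algebra.Homology.Embedding.ExtendHomology
import Mathlib.Algebra.Homology.Embedding.Basic
import Mathlib.CategoryTheory.Abelian.Basic

/-!
# Prepending a first page to a spectral sequence starting at the second page
-/

set_option autoImplicit false

universe v u

open CategoryTheory CategoryTheory.Limits

noncomputable section

namespace Groth.Agent.DescentSS

variable {C : Type u} [Category.{v} C] [Abelian C]

/-- The complex shape of the first page. -/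
abbrev shapeOne : ComplexShape (ℤ × ℤ) := ComplexShape.up' (⟨1, 1 - 1⟩ : ℤ × ℤ)

lemma shapeOne_rel {a b : ℤ × ℤ} : shapeOne.Rel a b ↔ a.1 + 1 = b.1 ∧ a.2 = b.2 := by
  simp [shapeOne, ComplexShape.up', Prod.ext_iff]

variable (R : ℤ → CochainComplex C ℤ)

/-- The differential of the first page. -/
def pageOneD (a b : ℤ × ℤ) : (R a.2).X a.1 ⟶ (R b.2).X b.1 :=
  if h : a.2 = b.2 then (R a.2).d a.1 b.1 ≫ eqToHom (by rw [h]) else 0

lemma pageOneD_self (p p' q : ℤ) : pageOneD R (p, q) (p', q) = (R q).d p p' := by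
  simp [pageOneD]

/-- The first page, from the rows. -/
def pageOne : HomologicalComplex C shapeOne where
  X a := (R a.2).X a.1
  d a b := pageOneD R a b
  shape a b h := by
    by_cases hq : a.2 = b.2
    · rw [pageOneD, dif_pos hq, (R a.2).shape a.1 b.1 (fun h' => h (shapeOne_rel.2 ⟨h', hq⟩)), zero_comp]
    · rw [pageOneD, dif_neg hq]
  d_comp_d' := by
    rintro ⟨p, q⟩ ⟨p', q'⟩ ⟨p'', q''⟩ h h'
    obtain ⟨-, rfl : q = q'⟩ := shapeOne_rel.1 h
    obtain ⟨-, rfl : q = q''⟩ := shapeOne_rel.1 h'
    simp only [pageOneD_self]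
    exact (R q).d_comp_d _ _ _

/-- The homology of the first page. -/
def pageOneHomologyIso (p q : ℤ) : (pageOne R).homology (p, q) ≅ (R q).homology p :=
  (pageOne R).homologyIsoSc' (p - 1, q) (p, q) (p + 1, q)
      (shapeOne.prev_eq' (shapeOne_rel.2 ⟨by simp, rfl⟩)) (shapeOne.next_eq' (shapeOne_rel.2 ⟨rfl, rfl⟩)) ≪≫
    ShortComplex.homologyMapIso (ShortComplex.isoMk (S₁ := (pageOne R).sc' (p - 1, q) (p, q) (p + 1, q))
      (S₂ := (R q).sc' (p - 1) p (p + 1)) (Iso.refl _) (Iso.refl _) (Iso.refl _)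
      ((Category.id_comp _).trans ((pageOneD_self R (p - 1) p q).symm.trans (Category.comp_id _).symm))
      ((Category.id_comp _).trans ((pageOneD_self R p (p + 1) q).symm.trans (Category.comp_id _).symm))) ≪≫
    ((R q).homologyIsoSc' (p - 1) p (p + 1) (by simp) (by simp)).symm

variable (E : E₂CohomologicalSpectralSequence C)
  (e : ∀ pq : ℤ × ℤ, (pageOne R).homology pq ≅ (E.page 2 le_rfl).X pq)

/-- All pages. -/
def pages (r : ℤ) (hr : 1 ≤ r) : HomologicalComplex C (ComplexShape.up' (⟨r, 1 - r⟩ : ℤ × ℤ)) :=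
  if h : r = 1 then (by subst h; exact pageOne R) else E.page r (by lia)

lemma pages_one : pages R E 1 le_rfl = pageOne R := dif_pos rfl

lemma pages_of_two_le (r : ℤ) (hr : 1 ≤ r) (h : 2 ≤ r) : pages R E r hr = E.page r h :=
  dif_neg (by lia)

/-- The homology isomorphisms. -/
def pagesIso (r r' : ℤ) (pq : ℤ × ℤ) (hrr' : r + 1 = r') (hr : 1 ≤ r) :
    (pages R E r hr).homology pq ≅ (pages R E r' (by lia)).X pq :=
  if h : r = 1 then
    eqToIso (by subst h; rw [pages_one]) ≪≫ e pq ≪≫
      eqToIso (by obtain rfl : r' = 2 := by lia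
                  rw [pages_of_two_le R E 2 _ le_rfl])
  else
    eqToIso (by rw [pages_of_two_le R E r hr (by lia)]) ≪≫ E.iso r r' pq hrr' (by lia) ≪≫
      eqToIso (by rw [pages_of_two_le R E r' _ (by lia)])

/-- The spectral sequence with the first page prepended. -/
def prepend : CohomologicalSpectralSequence C 1 where
  page r hr := pages R E r hr
  iso r r' pq hrr' hr := pagesIso R E e r r' pq hrr' hr

lemma prepend_page_one_X (p q : ℤ) : ((prepend R E e).page 1 le_rfl).X (p, q) = (R q).X p := by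
  show (pages R E 1 le_rfl).X (p, q) = _
  rw [pages_one]
  rfl

lemma stationaryAt_prepend {pq : ℤ × ℤ} {r : ℤ} (h : SpSeq.StationaryAt E pq r) :
    SpSeq.StationaryAt (prepend R E e) pq r := by
  refine ⟨by have := h.1; lia, fun r' h₀ hr' => ?_⟩
  have h2 : 2 ≤ r' := by have := h.1; lia
  show (pages R E r' h₀).d _ pq = 0 ∧ (pages R E r' h₀).d pq _ = 0
  rw [pages_of_two_le R E r' h₀ h2]
  exact h.2 r' h2 hr'

variable {H : ℤ → C}

/-- The abutment of the extended spectral sequence. -/
def prependAbutment (a : SpSeq.Abutment E H) : SpSeq.Abutment (prepend R E e) H where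
  fil := a.fil
  anti := a.anti
  rk := a.rk
  stat pq := stationaryAt_prepend R E e (a.stat pq)
  β pq := eqToIso (by
      show (pages R E (a.rk pq) _).X pq = _
      rw [pages_of_two_le R E (a.rk pq) _ (a.stat pq).1]) ≪≫ a.β pq

omit R in
/-- A first quadrant family of rows, extended by zero. -/
def rows (M : ℕ → CochainComplex C ℕ) : ℤ → CochainComplex C ℤ
  | Int.ofNat q => (M q).extend ComplexShape.embeddingUpNat
  | Int.negSucc _ => HomologicalComplex.zero

end Groth.Agent.DescentSS
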