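import Groth.Prelude.Def_CohTop
import Groth.Prelude.Def_CohSite
import Groth.Agent.SiteBase.Top
import Groth.Agent.SiteBase.CoLift
import Mathlib.CategoryTheory.Sites.CoverLifting
import Mathlib.CategoryTheory.Sites.CoverPreserving
import Mathlib.CategoryTheory.InducedCategory
import Mathlib.CategoryTheory.Limits.Shapes.Terminal
import Mathlib.CategoryTheory.Comma.Over.Basic

/-!
# The site of open subsets of a family of spaces over a base

Objects are the open subsets of the members of the family, morphisms all continuous maps over the base,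
coverings the open coverings.
-/

set_option autoImplicit false
set_option linter.unusedSectionVars false
set_option backward.isDefEq.respectTransparency false

universe u

open CategoryTheory CategoryTheory.Limits Opposite TopologicalSpace

noncomputable section

namespace Groth.Agent.DescentSS

variable {S : TopCat.{u}} {ι : Type u} (Z : ι → TopCat.{u}) (g : ∀ i, Z i ⟶ S)

/-- The members of the family, the base included. -/
def sp : Option ι → TopCat.{u}
  | none => S
  | some i => Z i

/-- The structure maps. -/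
def str : ∀ o : Option ι, sp (S := S) Z o ⟶ S
  | none => 𝟙 S
  | some i => g i

/-- Open subsets as spaces over the base. -/
def ofOpen (c : Σ o : Option ι, Opens (sp (S := S) Z o)) : Over S :=
  Over.mk (c.2.inclusion' ≫ str Z g c.1)

/-- The category of opens of the family. -/
abbrev Opn : Type u := InducedCategory (Over S) (ofOpen Z g)

instance : SmallCategory (Opn Z g) := inferInstanceAs (Category.{u} (InducedCategory (Over S) (ofOpen Z g)))

/-- The object of an open. -/
abbrev mkObj (o : Option ι) (U : Opens (sp (S := S) Z o)) : Opn Z g := (⟨o, U⟩ : Σ o : Option ι, Opens (sp (S := S) Z o))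

/-- Morphisms from continuous maps over the base. -/
def mkHom {c d : Opn Z g} (φ : (Opens.toTopCat _).obj c.2 ⟶ (Opens.toTopCat _).obj d.2)
    (w : ∀ x, str Z g d.1 (φ x).1 = str Z g c.1 x.1) : c ⟶ d :=
  InducedCategory.homMk (Over.homMk φ (TopCat.hom_ext (ContinuousMap.ext fun x => w x)) :
    ofOpen Z g c ⟶ ofOpen Z g d)

/-- The continuous map of a morphism. -/
abbrev fn {c d : Opn Z g} (h : c ⟶ d) : (Opens.toTopCat _).obj c.2 ⟶ (Opens.toTopCat _).obj d.2 := h.hom.left

lemma fn_w {c d : Opn Z g} (h : c ⟶ d) (x : c.2) : str Z g d.1 (fn Z g h x).1 = str Z g c.1 x.1 :=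
  ConcreteCategory.congr_hom (Over.w h.hom) x

lemma opn_hom_ext {c d : Opn Z g} {h h' : c ⟶ d} (e : ∀ x, (fn Z g h x).1 = (fn Z g h' x).1) : h = h' :=
  InducedCategory.hom_ext (Over.OverMorphism.ext (TopCat.hom_ext (ContinuousMap.ext fun x => Subtype.ext (e x))))

lemma fn_comp {c d e : Opn Z g} (h : c ⟶ d) (k : d ⟶ e) (x : c.2) :
    fn Z g (h ≫ k) x = fn Z g k (fn Z g h x) := rfl

/-- An inclusion of opens. -/
def incl (o : Option ι) {U V : Opens (sp (S := S) Z o)} (hUV : U ≤ V) : mkObj Z g o U ⟶ mkObj Z g o V :=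
  mkHom Z g ((Opens.toTopCat _).map (homOfLE hUV)) fun _ => rfl

lemma fn_incl (o : Option ι) {U V : Opens (sp (S := S) Z o)} (hUV : U ≤ V) (x : U) :
    (fn Z g (incl Z g o hUV) x).1 = x.1 := rfl

/-- The covering sieves. -/
def covers : GrothendieckTopology (Opn Z g) where
  sieves c := { R | ∀ x, x ∈ c.2 → ∃ (U : Opens (sp (S := S) Z c.1)) (hU : U ≤ c.2), x ∈ U ∧
    R (incl Z g c.1 hU) }
  top_mem' c x hx := ⟨c.2, le_rfl, hx, trivial⟩
  pullback_stable' := by
    rintro c d R h hR x hx
    obtain ⟨U, hU, hxU, hRU⟩ := hR (fn Z g h ⟨x, hx⟩).1 (fn Z g h ⟨x, hx⟩).2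
    let f : d.2 → sp (S := S) Z c.1 := fun y => (fn Z g h y).1
    have hf : Continuous f := continuous_subtype_val.comp (fn Z g h).hom.continuous
    let V : Opens (sp (S := S) Z d.1) :=
      ⟨Subtype.val '' (f ⁻¹' (U : Set (sp (S := S) Z c.1))),
        d.2.2.isOpenMap_subtype_val _ (U.2.preimage hf)⟩
    have hV : V ≤ d.2 := by rintro _ ⟨y, _, rfl⟩; exact y.2
    refine ⟨V, hV, ⟨⟨x, hx⟩, hxU, rfl⟩, ?_⟩
    let k₀ : V → U := fun y => ⟨f ⟨y.1, hV y.2⟩, by
      obtain ⟨z, hz, e⟩ := y.2
      have : z = (⟨y.1, hV y.2⟩ : d.2) := Subtype.ext e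
      exact this ▸ hz⟩
    have hk : Continuous k₀ :=
      Continuous.subtype_mk (hf.comp (Continuous.subtype_mk continuous_subtype_val fun (y : V) => hV y.2)) _
    let k : mkObj Z g d.1 V ⟶ mkObj Z g c.1 U :=
      mkHom Z g (TopCat.ofHom ⟨k₀, hk⟩) (fun y => fn_w Z g h ⟨y.1, hV y.2⟩)
    show R (incl Z g d.1 hV ≫ h)
    rw [show incl Z g d.1 hV ≫ h = k ≫ incl Z g c.1 hU from opn_hom_ext Z g fun y => rfl]
    exact R.downward_closed hRU k
  transitive' := by
    rintro c R hR T hT x hx
    obtain ⟨U, hU, hxU, hRU⟩ := hR x hx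
    obtain ⟨V, hV, hxV, hTV⟩ := hT hRU x hxU
    refine ⟨V, hV.trans hU, hxV, ?_⟩
    have : incl Z g c.1 (hV.trans hU) = incl Z g c.1 hV ≫ incl Z g c.1 hU := opn_hom_ext Z g fun y => rfl
    rw [this]
    exact hTV

lemma mem_covers {c : Opn Z g} (R : Sieve c) :
    R ∈ (covers Z g) c ↔ ∀ x, x ∈ c.2 → ∃ (U : Opens (sp (S := S) Z c.1)) (hU : U ≤ c.2), x ∈ U ∧
      R (incl Z g c.1 hU) := Iff.rfl

/-- The opens of one member. -/
def opnFunctor (o : Option ι) : Opens (sp (S := S) Z o) ⥤ Opn Z g where
  obj U := mkObj Z g o U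
  map h := incl Z g o h.le
  map_id U := opn_hom_ext Z g fun x => rfl
  map_comp h k := opn_hom_ext Z g fun x => rfl

instance opnFunctor_isCocontinuous (o : Option ι) :
    (opnFunctor Z g o).IsCocontinuous (Opens.grothendieckTopology _) (covers Z g) where
  cover_lift {U} R hR := fun x hx => by
    obtain ⟨V, hV, hxV, hRV⟩ := (mem_covers Z g R).1 hR x hx
    exact ⟨V, homOfLE hV, hRV, hxV⟩

lemma opnFunctor_coverPreserving (o : Option ι) :
    CoverPreserving (Opens.grothendieckTopology _) (covers Z g) (opnFunctor Z g o) where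
  cover_preserve {U} R hR := by
    rw [mem_covers]
    intro x hx
    obtain ⟨V, f, hf, hxV⟩ := hR x hx
    exact ⟨V, f.le, hxV, V, f, 𝟙 _, hf, (Category.id_comp _).symm⟩

lemma opnFunctor_compatiblePreserving (o : Option ι) :
    CompatiblePreserving.{u} (covers Z g) (opnFunctor Z g o) where
  compatible ℱ {U T x} hx {Y₁ Y₂ W} f₁ f₂ {g₁ g₂} hg₁ hg₂ e := by
    have hpt : ∀ y, (fn Z g f₁ y).1 = (fn Z g f₂ y).1 := fun y =>
      congrArg Subtype.val (congrArg (fun t => fn Z g t y) e)
    let k : W ⟶ mkObj Z g o (Y₁ ⊓ Y₂) :=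
      mkHom Z g (TopCat.ofHom ⟨fun y => ⟨(fn Z g f₁ y).1, (fn Z g f₁ y).2, by
          rw [hpt]; exact (fn Z g f₂ y).2⟩,
        Continuous.subtype_mk (continuous_subtype_val.comp (fn Z g f₁).hom.continuous) _⟩)
        (fun y => fn_w Z g f₁ y)
    have h₁ : f₁ = k ≫ (opnFunctor Z g o).map (homOfLE inf_le_left) := opn_hom_ext Z g fun y => rfl
    have h₂ : f₂ = k ≫ (opnFunctor Z g o).map (homOfLE inf_le_right) :=
      opn_hom_ext Z g fun y => (hpt y).symm
    rw [h₁, h₂, op_comp, op_comp, Functor.map_comp, Functor.map_comp]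
    exact congrArg (ℱ.obj.map k.op) (hx (homOfLE inf_le_left) (homOfLE inf_le_right) hg₁ hg₂
      (Subsingleton.elim _ _))

instance opnFunctor_isContinuous (o : Option ι) :
    (opnFunctor Z g o).IsContinuous (Opens.grothendieckTopology _) (covers Z g) :=
  Functor.isContinuous_of_coverPreserving (opnFunctor_compatiblePreserving Z g o)
    (opnFunctor_coverPreserving Z g o)

/-- Restriction to a member. -/
abbrev resTo (o : Option ι) : Sheaf (covers Z g) AddCommGrpCat.{u} ⥤ CohTop.Ab (sp (S := S) Z o) :=
  CohSite.push (covers Z g) (Opens.grothendieckTopology _) (opnFunctor Z g o)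

/-- Restrictions of injectives are flasque. -/
lemma isFlasque_resTo (o : Option ι) (I : Sheaf (covers Z g) AddCommGrpCat.{u}) [Injective I] :
    TopCat.Sheaf.IsFlasque ((resTo Z g o).obj I) where
  epi {U V} i := by
    have hm : Mono ((opnFunctor Z g o).map i.unop) := ⟨fun a b e => opn_hom_ext Z g fun x => by
      have := congrArg (fun t => (fn Z g t x).1) e
      exact this⟩
    exact (AddCommGrpCat.epi_iff_surjective _).mpr (SiteBase.sections_surjective_of_mono _ I)

/-- Cohomology of an open of a member computed on the big site. -/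
theorem nonempty_HU_resTo (o : Option ι) (U : Opens (sp (S := S) Z o))
    (G : Sheaf (covers Z g) AddCommGrpCat.{u}) (n : ℕ) :
    Nonempty (CohTop.HU ((resTo Z g o).obj G) n U ≃+ CohSite.HU G n (mkObj Z g o U)) :=
  SiteBase.nonempty_HU_push_addEquiv (opnFunctor Z g o) U (fun I hI q =>
    haveI := isFlasque_resTo Z g o I
    SiteBase.subsingleton_HU_of_isFlasque _ U q) G n

/-- Inverse image from the base to the site of the family. -/
abbrev fromBase : CohTop.Ab (sp (S := S) Z none) ⥤ Sheaf (covers Z g) AddCommGrpCat.{u} :=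
  (opnFunctor Z g none).sheafPullback AddCommGrpCat.{u} (Opens.grothendieckTopology (sp (S := S) Z none))
    (covers Z g)

/-- The preimage of an open of the base. -/
abbrev pre (o : Option ι) (V : Opens S) : Opens (sp (S := S) Z o) := (Opens.map (str Z g o)).obj V

/-- The map to the base. -/
def toBase (o : Option ι) (V : Opens S) : mkObj Z g o (pre Z g o V) ⟶ mkObj Z g none V :=
  mkHom Z g (TopCat.ofHom ⟨fun y => ⟨str Z g o y.1, y.2⟩,
    Continuous.subtype_mk ((str Z g o).hom.continuous.comp continuous_subtype_val) _⟩) fun _ => rfl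

/-- The initial structured arrow. -/
def initialArrow (o : Option ι) (V : Opens S) :
    StructuredArrow (op (mkObj Z g none V)) (opnFunctor Z g o).op :=
  StructuredArrow.mk (Y := op (pre Z g o V)) (toBase Z g o V).op

lemma fn_base {V : Opens S} {c : Opn Z g} (h : c ⟶ mkObj Z g none V) (x : c.2) :
    str Z g c.1 x.1 ∈ V := by
  have := (fn Z g h x).2
  rwa [show (fn Z g h x).1 = str Z g c.1 x.1 from fn_w Z g h x] at this

/-- It is initial. -/
def isInitial_initialArrow (o : Option ι) (V : Opens S) : IsInitial (initialArrow Z g o V) :=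
  IsInitial.ofUniqueHom
    (fun T => StructuredArrow.homMk
      (homOfLE (fun x hx => fn_base Z g (c := mkObj Z g o T.right.unop) T.hom.unop ⟨x, hx⟩)).op
      (Quiver.Hom.unop_inj (opn_hom_ext Z g fun y =>
        (fn_w Z g (c := mkObj Z g o T.right.unop) T.hom.unop y).symm)))
    (fun T m => StructuredArrow.hom_ext _ _ (Quiver.Hom.unop_inj (Subsingleton.elim _ _)))

/-- Right adjoint of the restriction. -/
abbrev resRight (o : Option ι) : CohTop.Ab (sp (S := S) Z o) ⥤ Sheaf (covers Z g) AddCommGrpCat.{u} :=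
  (opnFunctor Z g o).sheafPushforwardCocontinuous AddCommGrpCat.{u} (Opens.grothendieckTopology _) (covers Z g)

/-- The right adjoints agree. -/
def rightCmp (o : Option ι) : resRight Z g o ⋙ resTo Z g none ⟶ CohTop.push (str Z g o) where
  app G := ⟨{
    app := fun V => ((resRight Z g o).obj G).obj.map (toBase Z g o V.unop).op ≫
      (((opnFunctor Z g o).sheafAdjunctionCocontinuous AddCommGrpCat.{u} (Opens.grothendieckTopology _)
        (covers Z g)).counit.app G).hom.app (op (pre Z g o V.unop))
    naturality := fun V W k => by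
      let c := (((opnFunctor Z g o).sheafAdjunctionCocontinuous AddCommGrpCat.{u} (Opens.grothendieckTopology _)
        (covers Z g)).counit.app G).hom
      show ((resRight Z g o).obj G).obj.map ((opnFunctor Z g none).map k.unop).op ≫
          ((resRight Z g o).obj G).obj.map (toBase Z g o W.unop).op ≫ c.app (op (pre Z g o W.unop)) =
        (((resRight Z g o).obj G).obj.map (toBase Z g o V.unop).op ≫ c.app (op (pre Z g o V.unop))) ≫
          G.obj.map ((Opens.map (str Z g o)).map k.unop).op
      rw [← Functor.map_comp_assoc, ← op_comp, Category.assoc]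
      refine Eq.trans ?_ (congrArg (_ ≫ ·) (c.naturality ((Opens.map (str Z g o)).map k.unop).op))
      refine Eq.trans ?_ ((Category.assoc _ _ _))
      refine congrArg (· ≫ c.app (op (pre Z g o W.unop))) ?_
      refine Eq.trans ?_ (((resRight Z g o).obj G).obj.map_comp _ _)
      exact congrArg _ (congrArg Quiver.Hom.op (opn_hom_ext Z g fun y => rfl)) }⟩
  naturality G G' φ := by
    refine Sheaf.hom_ext (NatTrans.ext (funext fun V => ?_))
    let adj := (opnFunctor Z g o).sheafAdjunctionCocontinuous AddCommGrpCat.{u}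
      (Opens.grothendieckTopology _) (covers Z g)
    show ((resRight Z g o).map φ).hom.app _ ≫ ((resRight Z g o).obj G').obj.map _ ≫
        (adj.counit.app G').hom.app _ =
      (((resRight Z g o).obj G).obj.map _ ≫ (adj.counit.app G).hom.app _) ≫ φ.hom.app _
    rw [← NatTrans.naturality_assoc, Category.assoc]
    exact congrArg (_ ≫ ·) (congrArg (fun t => t.hom.app (op (pre Z g o V.unop))) (adj.counit.naturality φ))

instance isIso_rightCmp_app (o : Option ι) (G : CohTop.Ab (sp (S := S) Z o)) :
    IsIso ((rightCmp Z g o).app G) := by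
  have : ∀ V, IsIso (((rightCmp Z g o).app G).hom.app V) := fun V => by
    have h := (opnFunctor Z g o).op.isPointwiseRightKanExtensionRanCounit G.obj (op (mkObj Z g none V.unop))
    have h2 := h.isIso_π_app_of_isInitial (initialArrow Z g o V.unop) (isInitial_initialArrow Z g o V.unop)
    refine (show IsIso (((resRight Z g o).obj G).obj.map (toBase Z g o V.unop).op ≫
      (((opnFunctor Z g o).sheafAdjunctionCocontinuous AddCommGrpCat.{u} (Opens.grothendieckTopology _)
        (covers Z g)).counit.app G).hom.app (op (pre Z g o V.unop))) from ?_)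
    rw [Functor.sheafAdjunctionCocontinuous_counit_app_hom, Functor.ranAdjunction_counit]
    exact h2
  have : IsIso ((rightCmp Z g o).app G).hom := NatIso.isIso_of_isIso_app _
  have : IsIso ((sheafToPresheaf _ _).map ((rightCmp Z g o).app G)) :=
    show IsIso ((rightCmp Z g o).app G).hom from this
  exact isIso_of_reflects_iso _ (sheafToPresheaf _ _)

/-- Pulling back to the site and restricting is the inverse image. -/
def resFromBase (o : Option ι) : fromBase Z g ⋙ resTo Z g o ≅ CohTop.pull (str Z g o) :=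
  haveI := NatIso.isIso_of_isIso_app (rightCmp Z g o)
  Adjunction.leftAdjointUniq
    ((((opnFunctor Z g none).sheafAdjunctionContinuous AddCommGrpCat.{u} (Opens.grothendieckTopology (sp (S := S) Z none))
      (covers Z g)).comp ((opnFunctor Z g o).sheafAdjunctionCocontinuous AddCommGrpCat.{u}
        (Opens.grothendieckTopology _) (covers Z g))).ofNatIsoRight (asIso (rightCmp Z g o)))
    (TopCat.Sheaf.pullbackPushforwardAdjunction AddCommGrpCat.{u} (str Z g o))

/-- Cohomology of a member with values in the inverse image. -/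
theorem nonempty_H_pull_iso (o : Option ι) (F : CohTop.Ab S) (n : ℕ) :
    Nonempty (AddCommGrpCat.of (CohSite.HU ((fromBase Z g).obj F) n (mkObj Z g o ⊤)) ≅
      AddCommGrpCat.of (CohTop.H ((CohTop.pull (str Z g o)).obj F) n)) := by
  obtain ⟨e⟩ := nonempty_HU_resTo Z g o ⊤ ((fromBase Z g).obj F) n
  let e₁ := (((Sheaf.cohomologyPresheafFunctor.{u} (Opens.grothendieckTopology (sp (S := S) Z o)) n).mapIso
    ((resFromBase Z g o).app F)).app (op ⊤)).addCommGroupIsoToAddEquiv
  exact ⟨(e.symm.trans (e₁.trans (SiteBase.huTerminalEquiv isTerminalTop _ n))).toAddCommGrpIso⟩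

end Groth.Agent.DescentSS
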